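import Cfsg.Agent.H25.Cover
import Cfsg.Agent.Lib.Helper23.MinMax
import Cfsg.Agent.H12.Cores

/-!
# Covering of blocks: quotients that are `p`-groups
-/

set_option autoImplicit false

namespace Cfsg.Agent.H25

open Cfsg Cfsg.Agent.BlockLib Cfsg.Agent.CharLib

universe u

variable {M : Ideal AlgInt} [M.IsPrime] {G : Type u} [Group G] [Fintype G]
variable {N : Subgroup G}

theorem eps_mem_supp_of_pQuotient {p : ℕ} [Fact p.Prime] (hM : IsPModular p M) [N.Normal]
    (hq : IsPGroup p (G ⧸ N)) {B : Set (IrrCharacter G)} (hB : IsPBlock M B) :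
    eps M B ∈ CA.supp N := by
  intro g hg
  have h1 : p ∣ orderOf g := by
    by_contra hnd
    apply hg
    apply Cfsg.Agent.H12.mem_of_coprime_orderOf hq
    exact (Nat.Coprime.symm ((Nat.Prime.coprime_iff_not_dvd Fact.out).mpr hnd))
  rw [eps, red_apply, Cfsg.Agent.Lib.Helper23.MinMax.blockCoeff_eq_zero_of_singular hM hB h1,
    redS_zero]

variable [Fintype N]

theorem exists_covers {b : Set (IrrCharacter N)} (hb : IsPBlock M b) :
    ∃ B : Set (IrrCharacter G), IsPBlock M B ∧ Covers B b := by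
  obtain ⟨θ, hθ⟩ := pb_nonempty hb
  obtain ⟨χ, hχ⟩ := Cfsg.Agent.Lib.Helper23.exists_irr_over N θ.2
  exact ⟨blockOf M (χ : G → ℂ), ⟨χ, rfl⟩, χ, mem_blockOf_self χ, θ, hθ, hχ⟩

theorem mul_eq_of_covers_of_supp [N.Normal] {B : Set (IrrCharacter G)} (hB : IsPBlock M B)
    {b : Set (IrrCharacter N)} (hb : IsPBlock M b) (h : Covers B b) (hs : eps M B ∈ CA.supp N) :
    epsS M N b * eps M B = epsS M N b := by
  have hε := isBlk_epsS hb
  have hεB := isBlk_eps hB
  have hc : eps M B ∈ CA.cen N := mem_cen_of_mem_cen_top hεB.mem hs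
  rcases hε.prim _ hc hεB.idem with h1 | h1
  · exact h1
  · exfalso
    apply (covers_iff_mul_ne_zero hB hb).mp h
    rw [CA.cen_comm hc hε.mem, h1]

theorem covers_unique_of_supp [N.Normal] {B B' : Set (IrrCharacter G)} (hB : IsPBlock M B)
    (hB' : IsPBlock M B') {b : Set (IrrCharacter N)} (hb : IsPBlock M b) (h : Covers B b)
    (h' : Covers B' b) (hs : eps M B ∈ CA.supp N) (hs' : eps M B' ∈ CA.supp N) : B = B' := by
  by_contra hne
  have h1 := mul_eq_of_covers_of_supp hB hb h hs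
  have h2 := mul_eq_of_covers_of_supp hB' hb h' hs'
  apply (isBlk_epsS hb).ne_zero
  rw [← h2, ← h1, mul_assoc, eps_mul_of_ne hB hB' hne, mul_zero]

/-- Blocks of a group of order prime to `p` are singletons. -/
theorem eq_of_sameBlock_of_not_dvd {p : ℕ} [Fact p.Prime] (hM : IsPModular p M)
    (hG : ¬ p ∣ Nat.card G) {χ ψ : IrrCharacter G} (h : SameBlock M (χ : G → ℂ) (ψ : G → ℂ)) :
    χ = ψ := by
  classical
  by_contra hne
  have hR : ∀ g, MemLocalRing M (idem (χ : G → ℂ) g) := by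
    intro g
    have hne' := Ideal.IsPrime.ne_top ‹M.IsPrime›
    have h1 : idem (χ : G → ℂ) g =
        (Nat.card G : ℂ)⁻¹ * ((χ : G → ℂ) 1 * (starRingEnd ℂ) ((χ : G → ℂ) g)) := by
      rw [idem]
    rw [h1]
    refine memLocalRing_mul (memLocalRing_natCast_inv hM hG) (memLocalRing_mul ?_ ?_)
    · exact memLocalRing_of_isIntegral hne' (isCharacter_isIntegral (isCharacter_of_irr χ.2) 1)
    · apply memLocalRing_of_isIntegral hne'
      rw [← isCharacter_inv (isCharacter_of_irr χ.2)]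
      exact isCharacter_isIntegral (isCharacter_of_irr χ.2) _
  have h1 := memLocalIdeal_omega_sub (isClassFunction_of_irr χ.2) (isClassFunction_of_irr ψ.2) h
    (isClassFunction_idem (isClassFunction_of_irr χ.2)) hR
  rw [omega_idem χ.2 χ.2, omega_idem χ.2 ψ.2, if_pos rfl,
    if_neg (fun he => hne (Subtype.ext he).symm), sub_zero] at h1
  exact not_memLocalIdeal_one h1

end Cfsg.Agent.H25
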