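import Cfsg.Agent.H25.Osima
import Cfsg.Agent.H25.Codeg

set_option autoImplicit false
open Cfsg

namespace Cfsg.Agent.H25.BlockRes

open Cfsg Cfsg.Agent.CharLib Cfsg.Agent.BlockLib Cfsg.Agent.Lib.Helper23.MinMax
open scoped ComplexConjugate

variable {G : Type*} [Group G] [Fintype G]

/-- pairing the block idempotent coefficients with a function on a subgroup -/
theorem sum_blockCoeff_mul (H : Subgroup G) [Fintype H] (B : Set (Cfsg.IrrCharacter G))
    (hfin : B.Finite) (θ : H → ℂ) :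
    ∑ n : H, Cfsg.blockCoeff B (n : G) * θ n = (Nat.card G : ℂ)⁻¹ * (Nat.card H : ℂ) *
      ∑ χ ∈ hfin.toFinset, (χ : G → ℂ) 1 *
        conj (Cfsg.classInner (fun n : H => (χ : G → ℂ) n) θ) := by
  unfold Cfsg.blockCoeff
  simp only [finsum_mem_eq_finite_toFinset_sum _ hfin]
  have hN0 : (Nat.card H : ℂ) ≠ 0 := by exact_mod_cast Nat.card_pos.ne'
  have e1 : ∀ χ : Cfsg.IrrCharacter G, (Nat.card H : ℂ) *
      conj (Cfsg.classInner (fun n : H => (χ : G → ℂ) n) θ) =
      ∑ n : H, conj ((χ : G → ℂ) n) * θ n := by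
    intro χ
    simp only [Cfsg.classInner, map_mul, map_inv₀, Complex.conj_natCast, map_sum,
      Complex.conj_conj]
    rw [← mul_assoc, mul_inv_cancel₀ hN0, one_mul]
  rw [mul_assoc, Finset.mul_sum (a := (Nat.card H : ℂ))]
  have e2 : ∀ χ : Cfsg.IrrCharacter G, (Nat.card H : ℂ) * ((χ : G → ℂ) 1 *
      conj (Cfsg.classInner (fun n : H => (χ : G → ℂ) n) θ)) =
      ∑ n : H, (χ : G → ℂ) 1 * conj ((χ : G → ℂ) n) * θ n := by
    intro χ
    rw [mul_left_comm, e1, Finset.mul_sum]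
    exact Finset.sum_congr rfl (fun n _ => by ring)
  rw [Finset.sum_congr rfl (fun χ _ => e2 χ), Finset.sum_comm, Finset.mul_sum]
  refine Finset.sum_congr rfl (fun n _ => ?_)
  rw [mul_assoc, Finset.sum_mul]

/-- over a `p`-subgroup only the identity contributes -/
theorem sum_blockCoeff_mul_pGroup {p : ℕ} [Fact p.Prime] {M : Ideal Cfsg.AlgInt}
    (hM : Cfsg.IsPModular p M) (H : Subgroup G) [Fintype H] (hH : IsPGroup p H)
    (B : Set (Cfsg.IrrCharacter G)) (hB : Cfsg.IsPBlock M B) (θ : H → ℂ) :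
    ∑ n : H, Cfsg.blockCoeff B (n : G) * θ n = Cfsg.blockCoeff B 1 * θ 1 := by
  classical
  rw [Finset.sum_eq_single 1]
  · rfl
  · intro x _ hx1
    rw [blockCoeff_eq_zero_of_singular hM hB, zero_mul]
    obtain ⟨k, hk⟩ := (IsPGroup.iff_orderOf.mp hH) x
    rw [Subgroup.orderOf_coe, hk]
    rcases k with _ | k
    · rw [pow_zero, orderOf_eq_one_iff] at hk
      exact absurd hk hx1
    · exact dvd_pow_self p (Nat.succ_ne_zero k)
  · intro h; exact absurd (Finset.mem_univ _) h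

end Cfsg.Agent.H25.BlockRes
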