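import Mathlib
import Cfsg.Agent.H25.BlockSum

set_option autoImplicit false

namespace Cfsg.Agent.H25

open Module Cfsg Cfsg.Agent.CharLib Cfsg.Agent.BlockLib
open scoped ComplexConjugate

universe u

variable {G : Type u} [Group G] [Finite G] {M : Ideal AlgInt}

/-- class sizes in a quotient divide class sizes in the group -/
theorem index_centralizer_quotient_dvd (N : Subgroup G) [N.Normal] (g : G) :
    (Subgroup.centralizer ({(g : G ⧸ N)} : Set (G ⧸ N))).index ∣
      (Subgroup.centralizer ({g} : Set G)).index := by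
  rw [← Subgroup.index_comap_of_surjective _ (QuotientGroup.mk'_surjective N)]
  apply Subgroup.index_dvd_of_le
  intro x hx
  rw [Subgroup.mem_comap, Subgroup.mem_centralizer_singleton_iff]
  rw [Subgroup.mem_centralizer_singleton_iff] at hx
  show (x : G ⧸ N) * (g : G ⧸ N) = (g : G ⧸ N) * (x : G ⧸ N)
  rw [← QuotientGroup.mk_mul, ← QuotientGroup.mk_mul, hx]

/-- Inflation preserves blocks. -/
theorem sameBlock_inflation [M.IsPrime] (N : Subgroup G) [N.Normal] {χ ψ : G ⧸ N → ℂ}
    (h : SameBlock M χ ψ) : SameBlock M (χ ∘ QuotientGroup.mk) (ψ ∘ QuotientGroup.mk) := by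
  intro g
  obtain ⟨t, ht⟩ := index_centralizer_quotient_dvd N g
  have h1 := memLocalIdeal_mul_left (memLocalRing_natCast (Ideal.IsPrime.ne_top ‹_›) t)
    (h (g : G ⧸ N))
  unfold centralChar at h1 ⊢
  rw [ht]
  have e : (((Subgroup.centralizer ({(g : G ⧸ N)} : Set (G ⧸ N))).index * t : ℕ) : ℂ) *
      (χ ∘ QuotientGroup.mk) g / (χ ∘ QuotientGroup.mk) 1 -
      (((Subgroup.centralizer ({(g : G ⧸ N)} : Set (G ⧸ N))).index * t : ℕ) : ℂ) *
      (ψ ∘ QuotientGroup.mk) g / (ψ ∘ QuotientGroup.mk) 1 =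
      (t : ℂ) * (((Subgroup.centralizer ({(g : G ⧸ N)} : Set (G ⧸ N))).index : ℂ) * χ (g : G ⧸ N) / χ 1 -
        ((Subgroup.centralizer ({(g : G ⧸ N)} : Set (G ⧸ N))).index : ℂ) * ψ (g : G ⧸ N) / ψ 1) := by
    simp only [Function.comp, QuotientGroup.mk_one]
    push_cast
    ring
  rw [e]
  exact h1

end Cfsg.Agent.H25
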