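import Cfsg.Agent.H25.IndBlock3
import Cfsg.Agent.Lib.Helper23.Trunc6
import Cfsg.Agent.H6.PPart

/-!
# Blocks with a central defect group
-/

set_option autoImplicit false

namespace Cfsg.Agent.H25

open Cfsg Cfsg.Agent.BlockLib Cfsg.Agent.CharLib Cfsg.Agent.Lib.Helper23.MinMax
  Cfsg.Agent.Lib.Helper23
open scoped ComplexConjugate

universe u

variable {G : Type u} [Group G] [Fintype G]

omit [Fintype G] in
theorem conj_apply_one (χ : IrrCharacter G) : conj ((χ : G → ℂ) 1) = (χ : G → ℂ) 1 := by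
  rw [← charDegree_cast_irr, Complex.conj_natCast]

theorem normSq_centralChar_of_central (χ : IrrCharacter G) {z : G}
    (hz : z ∈ Subgroup.center G) : Complex.normSq (centralChar (χ : G → ℂ) z) = 1 := by
  have h1 := irr_central_mul χ.2 hz z⁻¹
  have h2 := irr_central_mul χ.2 hz 1
  rw [mul_inv_cancel, isCharacter_inv (isCharacter_of_irr χ.2)] at h1
  rw [mul_one] at h2
  rw [h2, map_mul, conj_apply_one, ← mul_assoc, Complex.mul_conj] at h1
  have h3 : ((Complex.normSq (centralChar (χ : G → ℂ) z) : ℝ) : ℂ) = 1 := by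
    apply mul_right_cancel₀ (irr_apply_one_ne_zero χ)
    rw [← h1, one_mul]
  exact_mod_cast h3

theorem normSq_central_mul (χ : IrrCharacter G) {z : G} (hz : z ∈ Subgroup.center G) (y : G) :
    Complex.normSq ((χ : G → ℂ) (z * y)) = Complex.normSq ((χ : G → ℂ) y) := by
  rw [irr_central_mul χ.2 hz y, map_mul, normSq_centralChar_of_central χ hz, one_mul]

omit [Fintype G] in
theorem isPPart_of_central {p : ℕ} (hp : p.Prime) {D : Subgroup G} (hD : IsPGroup p D)
    (hDZ : D ≤ Subgroup.center G) {z : G} (hz : z ∈ D) {y : G} (hy : ¬ p ∣ orderOf y) :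
    IsPPart p (z * y) z := by
  refine ⟨y, rfl, (Subgroup.mem_center_iff.1 (hDZ hz) y).symm, ?_, hy⟩
  obtain ⟨k, hk⟩ := hD ⟨z, hz⟩
  have h1 : z ^ (p ^ k) = 1 := by
    have := congrArg Subtype.val hk
    simpa using this
  obtain ⟨j, -, hj⟩ := (Nat.dvd_prime_pow hp).1 (orderOf_dvd_of_pow_eq_one h1)
  exact ⟨j, hj⟩

theorem sum_normSq (χ : IrrCharacter G) :
    ∑ g : G, Complex.normSq ((χ : G → ℂ) g) = (Nat.card G : ℝ) := by
  have h1 := classInner_irr_self χ.2
  rw [classInner_def] at h1
  have h2 : ∑ g : G, (χ : G → ℂ) g * conj ((χ : G → ℂ) g) = (Nat.card G : ℂ) := by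
    have h0 : (Nat.card G : ℂ) ≠ 0 := card_ne_zero_complex
    field_simp at h1
    exact h1
  have h3 : ((∑ g : G, Complex.normSq ((χ : G → ℂ) g) : ℝ) : ℂ) = ((Nat.card G : ℝ) : ℂ) := by
    push_cast
    rw [← h2]
    exact Finset.sum_congr rfl fun g _ => (Complex.mul_conj _).symm
  exact_mod_cast h3

theorem classInner_trunc_self (p : ℕ) (c : ℂ) (χ : IrrCharacter G) :
    classInner (Trunc.trunc p c (χ : G → ℂ)) (χ : G → ℂ) = c * (((Nat.card G : ℝ)⁻¹ *
      ∑ g : G, (if p ∣ orderOf g then 0 else Complex.normSq ((χ : G → ℂ) g)) : ℝ) : ℂ) := by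
  rw [classInner_def]
  push_cast
  rw [mul_left_comm, Finset.mul_sum, Finset.mul_sum, Finset.mul_sum]
  refine Finset.sum_congr rfl fun g _ => ?_
  rw [Trunc.trunc_apply]
  split_ifs
  · simp
  · rw [← Complex.mul_conj]; ring

/-- The key computation for a character `χ` with `χ(1)_p = [G : D]_p`, `D` central. -/
theorem central_main {p : ℕ} (hp : p.Prime) {D : Subgroup G} (hD : IsPGroup p D)
    (hDZ : D ≤ Subgroup.center G) (χ : IrrCharacter G)
    (hdeg : (charDegree (χ : G → ℂ)).factorization p = D.index.factorization p) :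
    classInner (Trunc.trunc p (Nat.card D : ℂ) (χ : G → ℂ)) (χ : G → ℂ) = 1 ∧
      ∀ g x : G, IsPPart p g x → x ∉ D → (χ : G → ℂ) g = 0 := by
  classical
  have : Fact p.Prime := ⟨hp⟩
  obtain ⟨j, hj⟩ := IsPGroup.iff_card.mp hD
  have ha : (Nat.card G).factorization p = j + (charDegree (χ : G → ℂ)).factorization p := by
    rw [hdeg, ← Subgroup.card_mul_index D, Nat.factorization_mul Nat.card_pos.ne'
      Subgroup.index_ne_zero_of_finite, hj]
    simp [hp.factorization_self]
  obtain ⟨z, hz⟩ := Trunc.exists_int_classInner_trunc hp χ χ j ha.le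
  set f : G → ℝ := fun g => Complex.normSq ((χ : G → ℂ) g) with hf
  have hf0 : ∀ g, 0 ≤ f g := fun g => Complex.normSq_nonneg _
  set S : ℝ := ∑ g : G, (if p ∣ orderOf g then 0 else f g) with hS
  have hG0 : (0 : ℝ) < Nat.card G := by exact_mod_cast Nat.card_pos
  have hrel : (p : ℝ) ^ j * S = z * Nat.card G := by
    rw [classInner_trunc_self] at hz
    have h1 : (((p : ℝ) ^ j * ((Nat.card G : ℝ)⁻¹ * S) : ℝ) : ℂ) = ((z : ℝ) : ℂ) := by
      rw [Complex.ofReal_intCast, ← hz, Complex.ofReal_mul, Complex.ofReal_pow,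
        Complex.ofReal_natCast]
    have h2 : (p : ℝ) ^ j * ((Nat.card G : ℝ)⁻¹ * S) = z := by exact_mod_cast h1
    rw [← h2]
    field_simp
  -- the image
  set A : Finset (D × G) := Finset.univ ×ˢ Finset.univ.filter (fun y : G => ¬ p ∣ orderOf y) with hA
  set φ : D × G → G := fun u => (u.1 : G) * u.2 with hφ
  have hinj : Set.InjOn φ (A : Set (D × G)) := by
    rintro ⟨z₁, y₁⟩ h₁ ⟨z₂, y₂⟩ h₂ h
    simp only [hA, Finset.coe_product, Finset.coe_univ, Finset.coe_filter, Finset.mem_univ,
      true_and, Set.mem_prod, Set.mem_univ, Set.mem_ofPred_eq] at h₁ h₂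
    simp only [hφ] at h
    have e1 := isPPart_of_central hp hD hDZ z₁.2 h₁
    have e2 := isPPart_of_central hp hD hDZ z₂.2 h₂
    rw [h] at e1
    have e3 : (z₁ : G) = z₂ := Cfsg.Agent.H6.isPPart_unique hp e1 e2
    rw [e3] at h
    exact Prod.ext (Subtype.ext e3) (mul_left_cancel h)
  have himg : ∑ g ∈ A.image φ, f g = (p : ℝ) ^ j * S := by
    rw [Finset.sum_image hinj, hA, Finset.sum_product]
    have : ∀ z₁ : D, ∑ y ∈ Finset.univ.filter (fun y : G => ¬ p ∣ orderOf y), f (φ (z₁, y)) = S := by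
      intro z₁
      rw [hS, Finset.sum_filter]
      refine Finset.sum_congr rfl fun y _ => ?_
      by_cases hy : p ∣ orderOf y
      · simp [hy]
      · simp only [hy, not_false_eq_true, if_true, if_false, hf, hφ]
        exact normSq_central_mul χ (hDZ z₁.2) y
    rw [Finset.sum_congr rfl fun z₁ _ => this z₁, Finset.sum_const, Finset.card_univ,
      ← Nat.card_eq_fintype_card, hj, nsmul_eq_mul]
    push_cast
    rfl
  have htot : ∑ g : G, f g = Nat.card G := sum_normSq χ
  have hle : ∑ g ∈ A.image φ, f g ≤ ∑ g : G, f g :=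
    Finset.sum_le_sum_of_subset_of_nonneg (Finset.subset_univ _) fun g _ _ => hf0 g
  have hSpos : 0 < S := by
    have h1 : f 1 ≤ S := by
      rw [hS]
      have h2 : f 1 = (if p ∣ orderOf (1 : G) then 0 else f 1) := by
        rw [if_neg]
        rw [orderOf_one]
        exact hp.one_lt.ne' ∘ Nat.dvd_one.1
      rw [h2]
      exact Finset.single_le_sum (f := fun g : G => if p ∣ orderOf g then 0 else f g)
        (fun g _ => by split_ifs; exacts [le_rfl, hf0 g]) (Finset.mem_univ 1)
    have h3 : 0 < f 1 := Complex.normSq_pos.2 (irr_apply_one_ne_zero χ)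
    linarith
  have hp0 : (0 : ℝ) < (p : ℝ) ^ j := pow_pos (by exact_mod_cast hp.pos) _
  have hz1 : z = 1 := by
    have h1 : (0 : ℝ) < z * Nat.card G := by rw [← hrel]; positivity
    have h2 : (0 : ℝ) < z := by
      by_contra hcon
      push Not at hcon
      nlinarith
    have h3 : (z : ℝ) * Nat.card G ≤ Nat.card G := by rw [← hrel, ← himg, ← htot]; exact hle
    have h4 : (z : ℝ) ≤ 1 := by
      by_contra hcon
      push Not at hcon
      nlinarith
    have h5 : 0 < z := by exact_mod_cast h2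
    have h6 : z ≤ 1 := by exact_mod_cast h4
    omega
  refine ⟨?_, ?_⟩
  · rw [hj]
    push_cast
    rw [hz, hz1]
    simp
  · intro g x hgx hx
    have hg : g ∉ A.image φ := by
      intro hmem
      obtain ⟨⟨z₁, y₁⟩, h₁, rfl⟩ := Finset.mem_image.1 hmem
      simp only [hA, Finset.mem_product, Finset.mem_univ, Finset.mem_filter, true_and] at h₁
      have e1 := isPPart_of_central hp hD hDZ z₁.2 h₁
      exact hx (by rw [Cfsg.Agent.H6.isPPart_unique hp hgx e1]; exact z₁.2)
    have h1 : ∑ g ∈ Finset.univ \ A.image φ, f g = 0 := by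
      have := Finset.sum_sdiff (f := f) (Finset.subset_univ (A.image φ))
      rw [himg, hrel, hz1, htot] at this
      simpa using this
    have h2 := (Finset.sum_eq_zero_iff_of_nonneg fun g _ => hf0 g).1 h1 g
      (Finset.mem_sdiff.2 ⟨Finset.mem_univ g, hg⟩)
    exact Complex.normSq_eq_zero.1 h2

variable {M : Ideal AlgInt}

/-- such a character has height zero -/
theorem central_minExp {p : ℕ} (hM : IsPModular p M) {D : Subgroup G} (hD : IsPGroup p D)
    (hDZ : D ≤ Subgroup.center G) {B : Set (IrrCharacter G)} (hB : IsPBlock M B)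
    {χ : IrrCharacter G} (hχ : χ ∈ B)
    (hdeg : (charDegree (χ : G → ℂ)).factorization p = D.index.factorization p) :
    (charDegree (χ : G → ℂ)).factorization p = minExp p B := by
  have hp := hM.1
  have : Fact p.Prime := ⟨hp⟩
  have := isPrime_of_isPModular hM
  obtain ⟨j, hj⟩ := IsPGroup.iff_card.mp hD
  have ha : (Nat.card G).factorization p = j + (charDegree (χ : G → ℂ)).factorization p := by
    rw [hdeg, ← Subgroup.card_mul_index D, Nat.factorization_mul Nat.card_pos.ne'
      Subgroup.index_ne_zero_of_finite, hj]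
    simp [hp.factorization_self]
  have h1 := (central_main hp hD hDZ χ hdeg).1
  have h2 : classInner (Trunc.trunc p ((p : ℂ) ^ j) (χ : G → ℂ)) (χ : G → ℂ) = ((1 : ℤ) : ℂ) := by
    rw [hj] at h1
    push_cast at h1
    rw [h1]; simp
  have h3 := Trunc.unit_of_val hM χ χ ha h2 one_ne_zero (by simp)
  obtain ⟨ψ₀, hψ₀, hmin⟩ := exists_minExp (p := p) (pb_nonempty hB)
  by_contra hne
  have hlt : (charDegree (ψ₀ : G → ℂ)).factorization p <
      (charDegree (χ : G → ℂ)).factorization p := by
    have := minExp_le (p := p) hχ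
    omega
  exact Trunc.unit_transport hM hB hχ hψ₀ χ h3 (memLocalIdeal_omega_cf_of_height_pos hM hlt)

end Cfsg.Agent.H25
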