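import Cfsg.Agent.H25.CentralDefect
import Cfsg.Agent.CharLib.L.CenterIndex
import Cfsg.Agent.CharLib.L.AbelianIndex

/-!
# Blocks with a central defect group, II: structure
-/

set_option autoImplicit false

namespace Cfsg.Agent.H25

open Cfsg Cfsg.Agent.BlockLib Cfsg.Agent.CharLib Cfsg.Agent.Lib.Helper23.MinMax
  Cfsg.Agent.Lib.Helper23
open scoped ComplexConjugate

universe u

variable {G : Type u} [Group G] [Fintype G]

theorem charDegree_dvd_index_of_le_center (χ : IrrCharacter G) {D : Subgroup G}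
    (hD : D ≤ Subgroup.center G) : charDegree (χ : G → ℂ) ∣ D.index := by
  obtain ⟨n, ρ, hirr, hχ⟩ := χ.2
  have h1 := Cfsg.Agent.CharLib.L.finrank_dvd_index_center ρ
  have h2 : charDegree (χ : G → ℂ) = Module.finrank ℂ (Fin n → ℂ) := by
    have h3 : ((charDegree (χ : G → ℂ) : ℕ) : ℂ) = ((Module.finrank ℂ (Fin n → ℂ) : ℕ) : ℂ) := by
      rw [charDegree_cast_irr, ← hχ, Representation.char_one]
    exact_mod_cast h3
  rw [h2]
  exact h1.trans (Subgroup.index_dvd_of_le hD)

theorem classInner_self_eq_ofReal (φ : G → ℂ) :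
    classInner φ φ = (((Nat.card G : ℝ)⁻¹ * ∑ g : G, Complex.normSq (φ g) : ℝ) : ℂ) := by
  rw [classInner_def]
  push_cast
  congr 1
  exact Finset.sum_congr rfl fun g _ => Complex.mul_conj _

theorem classInner_self_nonneg' {φ : G → ℂ} {r : ℝ} (h : classInner φ φ = (r : ℂ)) : 0 ≤ r := by
  rw [classInner_self_eq_ofReal] at h
  have h1 : (Nat.card G : ℝ)⁻¹ * ∑ g : G, Complex.normSq (φ g) = r := by exact_mod_cast h
  rw [← h1]
  exact mul_nonneg (by positivity) (Finset.sum_nonneg fun g _ => Complex.normSq_nonneg _)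

theorem classInner_trunc_trunc (p : ℕ) (c : ℂ) (χ ψ : G → ℂ) :
    classInner (Trunc.trunc p c χ) (Trunc.trunc p 1 ψ) = classInner (Trunc.trunc p c χ) ψ := by
  rw [classInner_def, classInner_def]
  congr 1
  refine Finset.sum_congr rfl fun g _ => ?_
  rw [Trunc.trunc_apply, Trunc.trunc_apply]
  split_ifs
  · simp
  · simp

variable {M : Ideal AlgInt} {p : ℕ} {B : Set (IrrCharacter G)} {Z : Subgroup G}

section

variable [Fact p.Prime] (hM : IsPModular p M) (hB : IsPBlock M B) (hZ : IsDefectGroup p M B Z)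
  (hZc : Z ≤ Subgroup.center G)

include hM hB hZ in
theorem cd_minExp : minExp p B = Z.index.factorization p := by
  have := isPrime_of_isPModular hM
  have hp := hM.1
  have c1 := card_of_isDefectGroup hM hB hZ
  have h1 : (Nat.card G).factorization p = blockDefect p B + Z.index.factorization p := by
    rw [← Subgroup.card_mul_index Z, Nat.factorization_mul Nat.card_pos.ne'
      Subgroup.index_ne_zero_of_finite, c1]
    simp [hp.factorization_self]
  rw [blockDefect_eq] at h1
  have h2 := minExp_le_card (p := p) (pb_nonempty hB)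
  omega

include hM hB hZ hZc in
theorem cd_deg {χ : IrrCharacter G} (hχ : χ ∈ B) :
    (charDegree (χ : G → ℂ)).factorization p = Z.index.factorization p := by
  apply le_antisymm
  · exact (Nat.factorization_le_iff_dvd (charDegree_pos_irr χ).ne'
      Subgroup.index_ne_zero_of_finite).2 (charDegree_dvd_index_of_le_center χ hZc) p
  · rw [← cd_minExp hM hB hZ]
    exact minExp_le hχ

include hM hB hZ in
theorem cd_isPGroup : IsPGroup p Z := IsPGroup.of_card (card_of_isDefectGroup hM hB hZ)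

include hM hB hZ hZc in
theorem cd_vanish {χ : IrrCharacter G} (hχ : χ ∈ B) {g x : G} (hgx : IsPPart p g x)
    (hx : x ∉ Z) : (χ : G → ℂ) g = 0 :=
  (central_main hM.1 (cd_isPGroup hM hB hZ) hZc χ (cd_deg hM hB hZ hZc hχ)).2 g x hgx hx

include hM hB hZ hZc in
theorem cd_inner_and_trunc {χ ψ : IrrCharacter G} (hχ : χ ∈ B) (hψ : ψ ∈ B) :
    classInner (Trunc.trunc p (Nat.card Z : ℂ) (χ : G → ℂ)) (ψ : G → ℂ) = 1 ∧
      Trunc.trunc p 1 (χ : G → ℂ) = Trunc.trunc p 1 (ψ : G → ℂ) := by
  have hp := hM.1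
  have hZp := cd_isPGroup hM hB hZ
  obtain ⟨j, hj⟩ := IsPGroup.iff_card.mp hZp
  have hdχ := cd_deg hM hB hZ hZc hχ
  have hdψ := cd_deg hM hB hZ hZc hψ
  have ha : (Nat.card G).factorization p = j + (charDegree (χ : G → ℂ)).factorization p := by
    rw [hdχ, ← Subgroup.card_mul_index Z, Nat.factorization_mul Nat.card_pos.ne'
      Subgroup.index_ne_zero_of_finite, hj]
    simp [hp.factorization_self]
  have ha' : (Nat.card G).factorization p = j + (charDegree (ψ : G → ℂ)).factorization p := by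
    rw [hdψ, ← hdχ]; exact ha
  obtain ⟨z, hz⟩ := Trunc.exists_int_classInner_trunc hp χ ψ j ha.le
  obtain ⟨z', hz'⟩ := Trunc.exists_int_classInner_trunc hp ψ χ j ha'.le
  have hzz : z = z' := Trunc.int_symm χ ψ j hz hz'
  have hunit := Trunc.not_memLocalIdeal_omega_cf hM hB hχ
    (by rw [hdχ, cd_minExp hM hB hZ]) hψ
  have hz0 := (Trunc.val_of_unit hM χ ψ ha hz hunit).1
  have h11 := (central_main hp hZp hZc χ hdχ).1
  have h22 := (central_main hp hZp hZc ψ hdψ).1
  have hc : (Nat.card Z : ℂ) = (p : ℂ) ^ j := by rw [hj]; push_cast; rfl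
  rw [hc] at h11 h22
  set c : ℂ := (p : ℂ) ^ j with hcdef
  have hc0 : c ≠ 0 := pow_ne_zero _ (by exact_mod_cast hp.ne_zero)
  set t₁ := Trunc.trunc p 1 (χ : G → ℂ) with ht₁
  set t₂ := Trunc.trunc p 1 (ψ : G → ℂ) with ht₂
  have e11 : c * classInner t₁ t₁ = 1 := by
    rw [ht₁, classInner_trunc_trunc, ← Trunc.classInner_trunc]; exact h11
  have e22 : c * classInner t₂ t₂ = 1 := by
    rw [ht₂, classInner_trunc_trunc, ← Trunc.classInner_trunc]; exact h22
  have e12 : c * classInner t₁ t₂ = z := by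
    rw [ht₁, ht₂, classInner_trunc_trunc, ← Trunc.classInner_trunc]; exact hz
  have e21 : c * classInner t₂ t₁ = z := by
    rw [ht₁, ht₂, classInner_trunc_trunc, ← Trunc.classInner_trunc, hzz]; exact hz'
  have hcr : c = (((p : ℝ) ^ j : ℝ) : ℂ) := by rw [hcdef]; push_cast; rfl
  have hpr : (0 : ℝ) < (p : ℝ) ^ j := pow_pos (by exact_mod_cast hp.pos) _
  have hminus : classInner (t₁ - t₂) (t₁ - t₂) = (((2 - 2 * (z : ℝ)) / (p : ℝ) ^ j : ℝ) : ℂ) := by
    rw [classInner_sub_left, classInner_sub_right, classInner_sub_right]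
    have : classInner t₁ t₁ - classInner t₁ t₂ - (classInner t₂ t₁ - classInner t₂ t₂) =
        (c * classInner t₁ t₁ - c * classInner t₁ t₂ - (c * classInner t₂ t₁ -
          c * classInner t₂ t₂)) / c := by
      field_simp
    rw [this, e11, e12, e21, e22, hcr]
    push_cast
    ring
  have hplus : classInner (t₁ + t₂) (t₁ + t₂) = (((2 + 2 * (z : ℝ)) / (p : ℝ) ^ j : ℝ) : ℂ) := by
    rw [classInner_add_left, classInner_add_right, classInner_add_right]
    have : classInner t₁ t₁ + classInner t₁ t₂ + (classInner t₂ t₁ + classInner t₂ t₂) =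
        (c * classInner t₁ t₁ + c * classInner t₁ t₂ + (c * classInner t₂ t₁ +
          c * classInner t₂ t₂)) / c := by
      field_simp
    rw [this, e11, e12, e21, e22, hcr]
    push_cast
    ring
  have n1 := classInner_self_nonneg' hminus
  have n2 := classInner_self_nonneg' hplus
  have b1 : (z : ℝ) ≤ 1 := by
    by_contra hcon
    push Not at hcon
    have : (2 - 2 * (z : ℝ)) / (p : ℝ) ^ j < 0 := div_neg_of_neg_of_pos (by linarith) hpr
    linarith
  have b2 : (-1 : ℝ) ≤ z := by
    by_contra hcon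
    push Not at hcon
    have : (2 + 2 * (z : ℝ)) / (p : ℝ) ^ j < 0 := div_neg_of_neg_of_pos (by linarith) hpr
    linarith
  have b1' : z ≤ 1 := by exact_mod_cast b1
  have b2' : -1 ≤ z := by exact_mod_cast b2
  have hz1 : z = 1 := by
    by_contra hne
    have hzm : z = -1 := by omega
    rw [hzm] at hplus
    have h0 : classInner (t₁ + t₂) (t₁ + t₂) = 0 := by rw [hplus]; simp
    have h1 := congrFun (classInner_self_eq_zero h0) 1
    simp only [Pi.add_apply, Pi.zero_apply, ht₁, ht₂, Trunc.trunc_one hp, one_mul] at h1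
    rw [← charDegree_cast_irr, ← charDegree_cast_irr] at h1
    have h2 : charDegree (χ : G → ℂ) + charDegree (ψ : G → ℂ) = 0 := by exact_mod_cast h1
    have := charDegree_pos_irr χ
    omega
  refine ⟨by rw [hc, hz, hz1]; simp, ?_⟩
  rw [hz1] at hminus
  have h0 : classInner (t₁ - t₂) (t₁ - t₂) = 0 := by rw [hminus]; simp
  exact sub_eq_zero.1 (classInner_self_eq_zero h0)

include hM hB hZ hZc in
theorem cd_card : Nat.card B = Nat.card Z := by
  classical
  have hp := hM.1
  have := isPrime_of_isPModular hM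
  obtain ⟨χ, hχ⟩ := pb_nonempty hB
  obtain ⟨j, hj⟩ := IsPGroup.iff_card.mp (cd_isPGroup hM hB hZ)
  have hc : (Nat.card Z : ℂ) = (p : ℂ) ^ j := by rw [hj]; push_cast; rfl
  have hz : ∀ ν : IrrCharacter G, classInner (Trunc.trunc p ((p : ℂ) ^ j) (χ : G → ℂ))
      (ν : G → ℂ) = ((if ν ∈ B then 1 else 0 : ℤ) : ℂ) := by
    intro ν
    by_cases hν : ν ∈ B
    · rw [if_pos hν, ← hc, (cd_inner_and_trunc hM hB hZ hZc hχ hν).1]; simp
    · rw [if_neg hν, Trunc.classInner_trunc_eq_zero hM hB _ hχ hν]; simp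
  have h1 := Trunc.sum_sq_int_eq χ j hz
  rw [if_pos hχ, mul_one] at h1
  have h2 : ∑ ν : IrrCharacter G, (if ν ∈ B then 1 else 0 : ℤ) ^ 2 =
      ((Finset.univ.filter (· ∈ B)).card : ℤ) := by
    rw [Finset.card_filter]
    push_cast
    refine Finset.sum_congr rfl fun ν _ => ?_
    split_ifs <;> simp
  rw [h2] at h1
  have h3 : (Finset.univ.filter (· ∈ B)).card = p ^ j := by exact_mod_cast h1
  rw [hj, ← h3, Nat.card_eq_fintype_card, Fintype.card_subtype]

end

end Cfsg.Agent.H25
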