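import Cfsg.Agent.H25.CentralDefect2

/-!
# Blocks with a central defect group, III: parametrization by the characters of the defect group
-/

set_option autoImplicit false

namespace Cfsg.Agent.H25

open Cfsg Cfsg.Agent.BlockLib Cfsg.Agent.CharLib Cfsg.Agent.Lib.Helper23.MinMax
  Cfsg.Agent.Lib.Helper23
open scoped ComplexConjugate

universe u

variable {G : Type u} [Group G] [Fintype G]

theorem centralChar_mul_of_central (χ : IrrCharacter G) {z w : G} (hz : z ∈ Subgroup.center G)
    (hw : w ∈ Subgroup.center G) :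
    centralChar (χ : G → ℂ) (z * w) = centralChar (χ : G → ℂ) z * centralChar (χ : G → ℂ) w := by
  have h1 := irr_central_mul χ.2 hz w
  have h2 := irr_central_mul χ.2 hw 1
  have h3 := irr_central_mul χ.2 (Subgroup.mul_mem _ hz hw) 1
  rw [mul_one] at h2 h3
  rw [h2, h3] at h1
  apply mul_right_cancel₀ (irr_apply_one_ne_zero χ)
  rw [h1, mul_assoc]

theorem centralChar_one' (χ : IrrCharacter G) : centralChar (χ : G → ℂ) 1 = 1 := by
  have h1 := irr_central_mul χ.2 (Subgroup.one_mem _) 1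
  rw [mul_one] at h1
  apply mul_right_cancel₀ (irr_apply_one_ne_zero χ)
  rw [← h1, one_mul]

/-- the central character of `χ` on a central subgroup, as a homomorphism -/
noncomputable def centralHom (χ : IrrCharacter G) {Z : Subgroup G} (hZ : Z ≤ Subgroup.center G) :
    Z →* ℂˣ :=
  MonoidHom.toHomUnits
    { toFun := fun z => centralChar (χ : G → ℂ) (z : G)
      map_one' := centralChar_one' χ
      map_mul' := fun a b => centralChar_mul_of_central χ (hZ a.2) (hZ b.2) }

theorem centralHom_apply (χ : IrrCharacter G) {Z : Subgroup G} (hZ : Z ≤ Subgroup.center G)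
    (z : Z) : ((centralHom χ hZ z : ℂˣ) : ℂ) = centralChar (χ : G → ℂ) (z : G) := rfl

/-- the central character of `χ` on a central subgroup, as an irreducible character -/
noncomputable def centralIrr (χ : IrrCharacter G) {Z : Subgroup G} (hZ : Z ≤ Subgroup.center G) :
    IrrCharacter Z :=
  ⟨fun z => ((centralHom χ hZ z : ℂˣ) : ℂ), isIrrCharacter_of_hom _⟩

theorem centralIrr_apply (χ : IrrCharacter G) {Z : Subgroup G} (hZ : Z ≤ Subgroup.center G)
    (z : Z) : (centralIrr χ hZ : Z → ℂ) z = centralChar (χ : G → ℂ) (z : G) := rfl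

theorem apply_central (χ : IrrCharacter G) {Z : Subgroup G} (hZ : Z ≤ Subgroup.center G)
    (z : Z) : (χ : G → ℂ) z = (centralIrr χ hZ : Z → ℂ) z * (χ : G → ℂ) 1 := by
  have := irr_central_mul χ.2 (hZ z.2) 1
  rwa [mul_one] at this

omit [Fintype G] in
theorem card_irr_of_le_center [Finite G] {Z : Subgroup G} (hZ : Z ≤ Subgroup.center G) :
    Nat.card (IrrCharacter Z) = Nat.card Z := by
  rw [card_irrCharacter]
  let _ : CommGroup Z :=
    { (inferInstance : Group Z) with
      mul_comm := fun a b => Subtype.ext (Subgroup.mem_center_iff.1 (hZ b.2) a) }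
  exact Nat.card_congr ConjClasses.mkEquiv.symm

variable {M : Ideal AlgInt} {p : ℕ} {B : Set (IrrCharacter G)} {Z : Subgroup G}
variable [Fact p.Prime] (hM : IsPModular p M) (hB : IsPBlock M B) (hZ : IsDefectGroup p M B Z)
  (hZc : Z ≤ Subgroup.center G)

include hM hB hZ hZc in
theorem cd_apply_reg {χ ψ : IrrCharacter G} (hχ : χ ∈ B) (hψ : ψ ∈ B) {y : G}
    (hy : ¬ p ∣ orderOf y) : (χ : G → ℂ) y = (ψ : G → ℂ) y := by
  have h := congrFun (cd_inner_and_trunc hM hB hZ hZc hχ hψ).2 y
  rwa [Trunc.trunc_apply, Trunc.trunc_apply, if_neg hy, if_neg hy, one_mul, one_mul] at h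

include hM hB hZ in
theorem cd_eq_of_central {χ ψ : IrrCharacter G} (hχ : χ ∈ B) (hψ : ψ ∈ B)
    (h : centralIrr χ hZc = centralIrr ψ hZc) : χ = ψ := by
  apply Subtype.ext
  funext g
  obtain ⟨x, hx, -⟩ := Cfsg.Agent.H6.exists_isPPart hM.1 g
  by_cases hxZ : x ∈ Z
  · obtain ⟨y, rfl, -, -, hy⟩ := hx
    rw [irr_central_mul χ.2 (hZc hxZ), irr_central_mul ψ.2 (hZc hxZ),
      cd_apply_reg hM hB hZ hZc hχ hψ hy]
    have := congrArg (fun μ : IrrCharacter Z => (μ : Z → ℂ) ⟨x, hxZ⟩) h
    simp only [centralIrr_apply] at this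
    rw [this]
  · rw [cd_vanish hM hB hZ hZc hχ hx hxZ, cd_vanish hM hB hZ hZc hψ hx hxZ]

include hM hB hZ in
theorem cd_exists (μ : IrrCharacter Z) : ∃ χ ∈ B, centralIrr χ hZc = μ := by
  let F : B → IrrCharacter Z := fun χ => centralIrr χ.1 hZc
  have hinj : Function.Injective F := fun χ ψ h =>
    Subtype.ext (cd_eq_of_central hM hB hZ hZc χ.2 ψ.2 h)
  have hbij := hinj.bijective_of_nat_card_le
    (by rw [card_irr_of_le_center hZc, cd_card hM hB hZ hZc])
  obtain ⟨χ, hχ⟩ := hbij.2 μ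
  exact ⟨χ.1, χ.2, hχ⟩

end Cfsg.Agent.H25
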