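import Mathlib
import Cfsg.Agent.CharLib.Orth

set_option autoImplicit false

namespace Cfsg.Agent.H25

open Cfsg Cfsg.Agent.CharLib Module
open scoped ComplexConjugate

universe u v

variable {G : Type u} [Group G] [Fintype G] {V : Type v} [AddCommGroup V] [Module ℂ V]
  [FiniteDimensional ℂ V]

theorem sum_conj_rep (ρ : Representation ℂ G V) [ρ.IsIrreducible] (b : G) :
    ∑ a : G, ρ (a * b * a⁻¹) =
      ((Nat.card G : ℂ) * ρ.character b / (finrank ℂ V : ℂ)) • LinearMap.id := by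
  have hT : ∀ g, (∑ a : G, ρ (a * b * a⁻¹)) ∘ₗ ρ g = ρ g ∘ₗ (∑ a : G, ρ (a * b * a⁻¹)) := by
    intro g
    have e1 : (∑ a : G, ρ (a * b * a⁻¹)) ∘ₗ ρ g = ∑ a : G, ρ (a * b * a⁻¹ * g) := by
      change (∑ a : G, ρ (a * b * a⁻¹)) * ρ g = _
      rw [Finset.sum_mul]
      refine Finset.sum_congr rfl fun a _ => ?_
      rw [map_mul (ρ) (a * b * a⁻¹) g]
    have e2 : ρ g ∘ₗ (∑ a : G, ρ (a * b * a⁻¹)) = ∑ a : G, ρ (g * (a * b * a⁻¹)) := by
      change ρ g * (∑ a : G, ρ (a * b * a⁻¹)) = _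
      rw [Finset.mul_sum]
      refine Finset.sum_congr rfl fun a _ => ?_
      rw [map_mul (ρ) g (a * b * a⁻¹)]
    rw [e1, e2]
    refine (Fintype.sum_equiv (Equiv.mulLeft g) _ _ ?_).symm
    intro a
    simp only [Equiv.coe_mulLeft]
    congr 1
    group
  have h1 := schur_trace ρ _ hT
  rw [h1]
  congr 2
  rw [map_sum]
  have : ∀ a : G, LinearMap.trace ℂ V (ρ (a * b * a⁻¹)) = ρ.character b := by
    intro a
    exact Representation.char_conj ρ b a
  simp only [this]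
  rw [Finset.sum_const, Finset.card_univ, nsmul_eq_mul, Nat.card_eq_fintype_card]

theorem sum_char_mul_rep_inv (ρ : Representation ℂ G V) [hρ : ρ.IsIrreducible] :
    ∑ b : G, ρ.character b • ρ b⁻¹ = ((Nat.card G : ℂ) / (finrank ℂ V : ℂ)) • LinearMap.id := by
  have hcf : IsClassFunction G (fun x => ρ.character x⁻¹) := by
    intro g h
    have : (h * g * h⁻¹)⁻¹ = h * g⁻¹ * h⁻¹ := by group
    simp only [this]
    exact Representation.char_conj ρ g⁻¹ h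
  have h1 := opSum_irr ρ hcf
  have h2 : opSum ρ (fun x => ρ.character x⁻¹) = ∑ b : G, ρ.character b • ρ b⁻¹ := by
    unfold opSum
    refine Fintype.sum_equiv (Equiv.inv G) _ _ ?_
    intro x
    simp
  rw [← h2, h1]
  congr 2
  have h3 := classInner_irr_self (isIrrCharacter_char ρ hρ)
  rw [classInner] at h3
  have h4 : (Nat.card G : ℂ) ≠ 0 := card_ne_zero_complex
  have h5 : ∑ g : G, ρ.character g * conj (ρ.character g) = (Nat.card G : ℂ) := by
    field_simp at h3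
    exact h3
  rw [← h5]
  refine Finset.sum_congr rfl fun g _ => ?_
  rw [character_inv, mul_comm]

/-- The sum of `ρ [a,b]` over all pairs is the scalar `(|G|/χ(1))²`. -/
theorem sum_commutator_rep (ρ : Representation ℂ G V) [hρ : ρ.IsIrreducible] :
    ∑ p : G × G, ρ (p.1 * p.2 * p.1⁻¹ * p.2⁻¹) =
      (((Nat.card G : ℂ) / (finrank ℂ V : ℂ)) ^ 2) • LinearMap.id := by
  rw [Fintype.sum_prod_type_right]
  have h1 : ∀ b : G, ∑ a : G, ρ (a * b * a⁻¹ * b⁻¹) =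
      ((Nat.card G : ℂ) / (finrank ℂ V : ℂ)) • (ρ.character b • ρ b⁻¹) := by
    intro b
    have e1 : ∑ a : G, ρ (a * b * a⁻¹ * b⁻¹) = (∑ a : G, ρ (a * b * a⁻¹)) * ρ b⁻¹ := by
      rw [Finset.sum_mul]
      refine Finset.sum_congr rfl fun a _ => ?_
      rw [map_mul (ρ) (a * b * a⁻¹) b⁻¹]
    rw [e1, sum_conj_rep]
    ext v
    simp only [Module.End.mul_apply, LinearMap.smul_apply, LinearMap.id_apply, smul_smul]
    congr 1
    ring
  simp only [h1]
  rw [← Finset.smul_sum, sum_char_mul_rep_inv, smul_smul, sq]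

/-- Expansion of the fibre-counting function of a map `w : ι → G` whose fibre sizes are a class
function. -/
theorem card_fiber_eq {ι : Type*} [Fintype ι] (w : ι → G)
    (hcf : ∀ g z : G, Nat.card {i : ι // w i = g * z * g⁻¹} = Nat.card {i : ι // w i = z})
    (z : G) :
    (Nat.card {i : ι // w i = z} : ℂ) =
      (Nat.card G : ℂ)⁻¹ * ∑ χ : IrrCharacter G, conj (∑ i, (χ : G → ℂ) (w i)) * (χ : G → ℂ) z := by
  classical
  have hcl : IsClassFunction G (fun z => (Nat.card {i : ι // w i = z} : ℂ)) := by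
    intro z g
    simp only [hcf g z]
  have h1 := congrFun (classFunction_eq_sum hcl) z
  simp only [Finset.sum_apply, Pi.smul_apply, smul_eq_mul] at h1
  rw [h1, Finset.mul_sum]
  refine Finset.sum_congr rfl fun χ _ => ?_
  rw [classInner, mul_assoc]
  congr 2
  rw [map_sum, ← Finset.sum_fiberwise (Finset.univ : Finset ι) w]
  refine Finset.sum_congr rfl fun y _ => ?_
  rw [Nat.card_eq_fintype_card, Fintype.card_subtype]
  rw [Finset.sum_congr rfl (g := fun _ => conj ((χ : G → ℂ) y))]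
  · rw [Finset.sum_const, nsmul_eq_mul]
  · intro i hi
    rw [(Finset.mem_filter.1 hi).2]

theorem sum_commutator_char (χ : IrrCharacter G) :
    ∑ p : G × G, (χ : G → ℂ) (p.1 * p.2 * p.1⁻¹ * p.2⁻¹) =
      (Nat.card G : ℂ) ^ 2 / (χ : G → ℂ) 1 := by
  obtain ⟨n, ρ, hρ, hχ⟩ := χ.2
  have h1 := congrArg (LinearMap.trace ℂ (Fin n → ℂ)) (sum_commutator_rep ρ)
  rw [map_sum, map_smul, LinearMap.trace_id, smul_eq_mul] at h1
  have h2 : (χ : G → ℂ) 1 = (finrank ℂ (Fin n → ℂ) : ℂ) := by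
    rw [← hχ, Representation.char_one]
  have h3 : (χ : G → ℂ) 1 ≠ 0 := irr_apply_one_ne_zero χ
  rw [← h2] at h1
  rw [← hχ] at h3 ⊢
  have h4 : ∀ p : G × G, ρ.character (p.1 * p.2 * p.1⁻¹ * p.2⁻¹) =
      LinearMap.trace ℂ (Fin n → ℂ) (ρ (p.1 * p.2 * p.1⁻¹ * p.2⁻¹)) := fun _ => rfl
  simp only [h4]
  rw [h1, ← hχ]
  field_simp

theorem sum_two_commutators_char (χ : IrrCharacter G) :
    ∑ p : (G × G) × (G × G), (χ : G → ℂ)
      ((p.1.1 * p.1.2 * p.1.1⁻¹ * p.1.2⁻¹) * (p.2.1 * p.2.2 * p.2.1⁻¹ * p.2.2⁻¹)) =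
      (Nat.card G : ℂ) ^ 4 / (χ : G → ℂ) 1 ^ 3 := by
  obtain ⟨n, ρ, hρ, hχ⟩ := χ.2
  have h0 : ∑ p : (G × G) × (G × G),
      ρ ((p.1.1 * p.1.2 * p.1.1⁻¹ * p.1.2⁻¹) * (p.2.1 * p.2.2 * p.2.1⁻¹ * p.2.2⁻¹)) =
      (∑ p : G × G, ρ (p.1 * p.2 * p.1⁻¹ * p.2⁻¹)) * (∑ p : G × G, ρ (p.1 * p.2 * p.1⁻¹ * p.2⁻¹)) := by
    rw [Fintype.sum_prod_type, Finset.sum_mul_sum]
    refine Finset.sum_congr rfl fun p _ => Finset.sum_congr rfl fun q _ => ?_
    rw [map_mul]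
  have h1 := congrArg (LinearMap.trace ℂ (Fin n → ℂ)) h0
  rw [sum_commutator_rep ρ, map_sum] at h1
  have e : ((((Nat.card G : ℂ) / (finrank ℂ (Fin n → ℂ) : ℂ)) ^ 2) •
      (LinearMap.id : (Fin n → ℂ) →ₗ[ℂ] (Fin n → ℂ))) *
      ((((Nat.card G : ℂ) / (finrank ℂ (Fin n → ℂ) : ℂ)) ^ 2) • LinearMap.id) =
      ((((Nat.card G : ℂ) / (finrank ℂ (Fin n → ℂ) : ℂ)) ^ 4)) • LinearMap.id := by
    refine LinearMap.ext fun v => ?_
    simp only [Module.End.mul_apply, LinearMap.smul_apply, LinearMap.id_apply, smul_smul]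
    congr 1
    ring
  rw [e, map_smul, LinearMap.trace_id, smul_eq_mul] at h1
  have h2 : (χ : G → ℂ) 1 = (finrank ℂ (Fin n → ℂ) : ℂ) := by
    rw [← hχ, Representation.char_one]
  have h3 : (χ : G → ℂ) 1 ≠ 0 := irr_apply_one_ne_zero χ
  rw [← h2] at h1
  have h4 : ∀ x : G, (χ : G → ℂ) x = LinearMap.trace ℂ (Fin n → ℂ) (ρ x) := by
    intro x; rw [← hχ]; rfl
  simp only [h4] at h1 h3 ⊢
  rw [h1]
  field_simp

end Cfsg.Agent.H25
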