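import Cfsg.Agent.H25.Zeros
import Cfsg.Agent.H25.NormalSum
import Cfsg.Agent.CharLib.Complete
import Cfsg.Agent.CharLib.Orth

set_option autoImplicit false

namespace Cfsg.Agent.H25.CosetAvg

open Module Cfsg Cfsg.Agent.CharLib Cfsg.Agent.CharLib.L
open scoped ComplexConjugate

section avg

variable {G : Type*} [Group G] [Fintype G]

open Classical in
/-- the average of a function over the cosets of `N` -/
noncomputable def avg (N : Subgroup G) (ψ : G → ℂ) : G → ℂ := fun g =>
  (Nat.card N : ℂ)⁻¹ * ∑ x : G, (if x ∈ N then ψ (g * x) else 0)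

theorem avg_irr (N : Subgroup G) [N.Normal] (η : IrrCharacter G) :
    avg N (η : G → ℂ) = (η : G → ℂ) ∨ avg N (η : G → ℂ) = 0 := by
  classical
  by_cases h : ∃ x ∈ N, (η : G → ℂ) x ≠ (η : G → ℂ) 1
  · right
    funext g
    unfold avg
    rw [H25.sum_coset_eq_zero N η h g, mul_zero]
    rfl
  · left
    push Not at h
    funext g
    unfold avg
    have e : ∀ x : G, (if x ∈ N then (η : G → ℂ) (g * x) else 0) =
        (if x ∈ N then (1 : ℂ) else 0) * (η : G → ℂ) g := by
      intro x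
      split_ifs with hx
      · rw [H25.irr_mul_of_mem_ker η (h x hx) g, one_mul]
      · rw [zero_mul]
    rw [Finset.sum_congr rfl (fun x _ => e x), ← Finset.sum_mul, Finset.sum_boole]
    have hc' : (Finset.univ.filter (fun x => x ∈ N)).card = Nat.card N := by
      rw [Nat.card_eq_fintype_card, Fintype.card_subtype]
    rw [hc', ← mul_assoc, inv_mul_cancel₀ (by exact_mod_cast Nat.card_pos.ne'), one_mul]

theorem avg_isCharacter (N : Subgroup G) [N.Normal] {ψ : G → ℂ}
    (hψ : IsCharacter G ψ) : IsCharacter G (avg N ψ) := by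
  classical
  obtain ⟨m, rfl⟩ := isCharacter_iff.mp hψ
  have e : avg N (∑ χ : IrrCharacter G, (m χ : ℂ) • (χ : G → ℂ)) =
      ∑ χ : IrrCharacter G, (m χ) • avg N (χ : G → ℂ) := by
    funext g
    rw [Finset.sum_apply]
    simp only [Pi.smul_apply]
    unfold avg
    simp only [Finset.sum_apply, Pi.smul_apply, smul_eq_mul, nsmul_eq_mul]
    have e1 : ∀ x : G, (if x ∈ N then ∑ c : IrrCharacter G, (m c : ℂ) * (c : G → ℂ) (g * x) else 0) =
        ∑ c : IrrCharacter G, (m c : ℂ) * (if x ∈ N then (c : G → ℂ) (g * x) else 0) := by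
      intro x
      split_ifs <;> simp
    rw [Finset.sum_congr rfl (fun x _ => e1 x), Finset.sum_comm, Finset.mul_sum]
    refine Finset.sum_congr rfl (fun c _ => ?_)
    rw [← Finset.mul_sum]
    ring
  rw [e]
  apply isCharacter_sum
  intro χ _
  apply isCharacter_nsmul
  rcases avg_irr N χ with h | h
  · rw [h]; exact isCharacter_of_irr χ.2
  · rw [h]; exact isCharacter_zero

end avg

section amgm

variable {G : Type*} [Group G] [Finite G]
variable {V : Type*} [AddCommGroup V] [Module ℂ V] [FiniteDimensional ℂ V]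

/-- first moment version of the AM-GM estimate, for characters with positive real values -/
theorem card_units_le_sum_re (ρ : Representation ℂ G V) (g : G)
    (hpos : ∀ x : G, ∃ r : ℝ, 0 < r ∧ ρ.character x = (r : ℂ)) :
    (Fintype.card (ZMod (Nat.card G))ˣ : ℝ) ≤
      ∑ u : (ZMod (Nat.card G))ˣ, (ρ.character (g ^ (u : ZMod (Nat.card G)).val)).re := by
  classical
  set n := Nat.card G with hn
  have hn0 : 0 < n := Nat.card_pos
  have : NeZero n := ⟨hn0.ne'⟩
  have hre : ∀ x : G, 0 < (ρ.character x).re ∧ ρ.character x = ((ρ.character x).re : ℂ) := by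
    intro x
    obtain ⟨r, hr, hx⟩ := hpos x
    rw [hx]
    simpa using hr
  have hgn : ∀ x : G, x ^ n = 1 := fun x => pow_card_eq_one'
  have hmod : ∀ (x : G) (k : ℕ), x ^ (k % n) = x ^ k := fun x k => pow_mod_natCard x k
  refine card_le_sum_of_one_le_prod _ (fun u => (hre _).1) ?_
  let y : (ZMod n)ˣ → QBar := fun u => ⟨ρ.character (g ^ (u : ZMod n).val), character_mem_QBar ρ _⟩
  let P : QBar := ∏ u, y u
  have hPc : (P : ℂ) = ∏ u : (ZMod n)ˣ, ρ.character (g ^ (u : ZMod n).val) := by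
    simp [P, y]
  have hfix : ∀ φ : QBar →ₐ[ℚ] ℂ, φ P = (P : ℂ) := by
    intro φ
    obtain ⟨m, hm, hφ⟩ := exists_pow_of_algHom n hn0 φ
    let um : (ZMod n)ˣ := ZMod.unitOfCoprime m hm
    have h1 : ∀ u : (ZMod n)ˣ, φ (y u) = ρ.character (g ^ ((u * um : (ZMod n)ˣ) : ZMod n).val) := by
      intro u
      rw [algHom_character ρ (g ^ (u : ZMod n).val) n hn0
        (hgn _) φ m hφ (y u) rfl]
      congr 1
      rw [← pow_mul, Units.val_mul, ZMod.val_mul, ZMod.coe_unitOfCoprime, ZMod.val_natCast, hmod]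
      rw [← hmod g ((u : ZMod n).val * m), ← hmod g ((u : ZMod n).val * (m % n)), Nat.mul_mod,
        Nat.mul_mod (u : ZMod n).val (m % n), Nat.mod_mod]
    rw [hPc]
    simp only [P, map_prod, h1]
    exact Fintype.prod_equiv (Equiv.mulRight um) _ _ (fun u => rfl)
  obtain ⟨q, hq⟩ := exists_rat_of_fixed P hfix
  have hint : IsIntegral ℤ (P : ℂ) := by
    rw [hPc]
    exact IsIntegral.prod _ fun u _ => isIntegral_character ρ _
  obtain ⟨k, hk⟩ := exists_int_of_isIntegral_of_rat hint hq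
  have hprod : (P : ℂ) = ((∏ u : (ZMod n)ˣ, (ρ.character (g ^ (u : ZMod n).val)).re : ℝ) : ℂ) := by
    rw [hPc, Complex.ofReal_prod]
    exact Finset.prod_congr rfl (fun u _ => (hre _).2)
  have hpp : 0 < ∏ u : (ZMod n)ˣ, (ρ.character (g ^ (u : ZMod n).val)).re :=
    Finset.prod_pos (fun u _ => (hre _).1)
  rw [hk] at hprod
  have h2 : ((k : ℝ) : ℂ) = ((∏ u : (ZMod n)ˣ, (ρ.character (g ^ (u : ZMod n).val)).re : ℝ) : ℂ) := by
    rw [← hprod]; simp
  have h3 : (k : ℝ) = ∏ u : (ZMod n)ˣ, (ρ.character (g ^ (u : ZMod n).val)).re :=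
    Complex.ofReal_injective h2
  rw [← h3] at hpp ⊢
  have : (0 : ℤ) < k := by exact_mod_cast hpp
  exact_mod_cast this

end amgm

end Cfsg.Agent.H25.CosetAvg
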