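import Cfsg.Agent.H25.IndBlock
import Cfsg.Agent.BlockLib.KG.NormalP
import Cfsg.Agent.BlockLib.KG.EquivTr
import Cfsg.Agent.CharLib.Clifford
import Cfsg.Agent.S0963

/-!
# Covering of blocks of a normal subgroup
-/

set_option autoImplicit false

namespace Cfsg.Agent.H25

open Cfsg Cfsg.Agent.BlockLib Cfsg.Agent.CharLib

universe u

variable {M : Ideal AlgInt} [M.IsPrime] {G : Type u} [Group G] [Fintype G]
variable {N : Subgroup G} [Fintype N]

/-- The block `B` of `G` covers the block `b` of `N` (character version). -/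
def Covers (B : Set (IrrCharacter G)) (b : Set (IrrCharacter N)) : Prop :=
  ∃ χ ∈ B, ∃ θ ∈ b, classInner (fun n : N => (χ : G → ℂ) n) (θ : N → ℂ) ≠ 0

/-- The central characters of `B` and `b` agree on the classes of `G` inside `N`. -/
def Agree (M : Ideal AlgInt) [M.IsPrime] (B : Set (IrrCharacter G)) (b : Set (IrrCharacter N)) :
    Prop :=
  ∀ n : N, CA.lam ⊤ (eps M B) (CA.clsSum ⊤ (n : G)) = CA.lam N (epsS M N b) (CA.clsSum ⊤ (n : G))

theorem trunc_eq_self {k : Type*} [CommRing k] {z : CA k G} (hz : z ∈ CA.supp N) :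
    trunc N z = z := CA.ext0_res N hz

omit [Fintype N] in
theorem clsSum_mem_supp_of_normal [hN : N.Normal] {k : Type*} [Field k] {n : G} (hn : n ∈ N) :
    (CA.clsSum ⊤ n : CA k G) ∈ CA.supp N := by
  intro g hg
  apply CA.clsSum_apply_of_not
  rintro ⟨h, -, rfl⟩
  exact hg (hN.conj_mem n hn h)

omit [Fintype N] in
theorem mem_cen_of_mem_cen_top {k : Type*} [CommRing k] {z : CA k G}
    (hz : z ∈ CA.cen (⊤ : Subgroup G)) (hs : z ∈ CA.supp N) : z ∈ CA.cen N :=
  ⟨hs, CA.fix_anti le_top hz.2⟩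

theorem agree_iff [N.Normal] {B : Set (IrrCharacter G)} (hB : IsPBlock M B)
    {b : Set (IrrCharacter N)} (hb : IsPBlock M b) :
    Agree M B b ↔ ∀ χ ∈ B, ∀ θ ∈ b, ∀ n : N, MemLocalIdeal M
      (centralChar (χ : G → ℂ) (n : G) - inducedCentralChar N (θ : N → ℂ) (n : G)) := by
  have key : ∀ χ ∈ B, ∀ θ ∈ b, ∀ n : N,
      (CA.lam ⊤ (eps M B) (CA.clsSum ⊤ (n : G)) = CA.lam N (epsS M N b) (CA.clsSum ⊤ (n : G)) ↔
      MemLocalIdeal M
        (centralChar (χ : G → ℂ) (n : G) - inducedCentralChar N (θ : N → ℂ) (n : G))) := by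
    intro χ hχ θ hθ n
    rw [← redS_eq_iff (memLocalRing_centralChar χ _) (memLocalRing_inducedCentralChar θ _),
      ← lam_eps_clsSum hB hχ, ← lam_epsS_trunc_clsSum hb hθ,
      trunc_eq_self (clsSum_mem_supp_of_normal n.2)]
  constructor
  · intro h χ hχ θ hθ n
    exact (key χ hχ θ hθ n).mp (h n)
  · intro h n
    obtain ⟨χ, hχ⟩ := pb_nonempty hB
    obtain ⟨θ, hθ⟩ := pb_nonempty hb
    exact (key χ hχ θ hθ n).mpr (h χ hχ θ hθ n)

theorem Agree.lam_eq {B : Set (IrrCharacter G)} (hB : IsPBlock M B)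
    {b : Set (IrrCharacter N)} (hb : IsPBlock M b) (h : Agree M B b)
    {z : CA (ResField M) G} (hz : z ∈ CA.cen (⊤ : Subgroup G)) (hs : z ∈ CA.supp N)
    [N.Normal] :
    CA.lam ⊤ (eps M B) z = CA.lam N (epsS M N b) z := by
  have hε := isBlk_epsS hb
  have hεB := isBlk_eps hB
  obtain ⟨s, hs0, hsum⟩ := CA.exists_eq_sum_clsSum hz
  have hsN : ∀ g ∈ s, g ∈ N := by
    intro g hg
    by_contra hgN
    exact hs0 g hg (hs g hgN)
  have hc : ∀ g ∈ s, (CA.clsSum ⊤ g : CA (ResField M) G) ∈ CA.cen N := fun g hg =>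
    mem_cen_of_mem_cen_top (CA.clsSum_mem_cen (Subgroup.mem_top _))
      (clsSum_mem_supp_of_normal (hsN g hg))
  rw [hsum, CA.lam_sum hε, CA.lam_sum hεB]
  · refine Finset.sum_congr rfl fun g hg => ?_
    rw [CA.lam_smul hεB (CA.clsSum_mem_cen (Subgroup.mem_top _)), CA.lam_smul hε (hc g hg)]
    congr 1
    exact h ⟨g, hsN g hg⟩
  · intro g _
    exact Subalgebra.smul_mem _ (CA.clsSum_mem_cen (Subgroup.mem_top _)) _
  · intro g hg
    exact Subalgebra.smul_mem _ (hc g hg) _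

theorem agree_of_constituent [N.Normal] {B : Set (IrrCharacter G)} (hB : IsPBlock M B)
    {b : Set (IrrCharacter N)} (hb : IsPBlock M b) {χ : IrrCharacter G} (hχ : χ ∈ B)
    {θ : IrrCharacter N} (hθ : θ ∈ b)
    (h : classInner (fun n : N => (χ : G → ℂ) n) (θ : N → ℂ) ≠ 0) : Agree M B b := by
  intro n
  rw [lam_eps_clsSum hB hχ, ← trunc_eq_self (N := N) (clsSum_mem_supp_of_normal n.2),
    lam_epsS_trunc_clsSum hb hθ, (Cfsg.Agent.S0963.result N χ θ).mp h n]

theorem Covers.agree [N.Normal] {B : Set (IrrCharacter G)} (hB : IsPBlock M B)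
    {b : Set (IrrCharacter N)} (hb : IsPBlock M b) (h : Covers B b) : Agree M B b := by
  obtain ⟨χ, hχ, θ, hθ, hc⟩ := h
  exact agree_of_constituent hB hb hχ hθ hc

omit [Fintype N] in
theorem normalizer_eq_top_of_normal [hN : N.Normal] : (⊤ : Subgroup G) ≤
    Subgroup.normalizer (N : Set G) := by
  rw [Subgroup.normalizer_eq_top]

omit [Fintype N] in
theorem orbSum_mem_cen_top [N.Normal] (e : CA (ResField M) G) :
    CA.orbSum ⊤ N e ∈ CA.cen (⊤ : Subgroup G) :=
  ⟨CA.mem_supp_top _, CA.orbSum_mem_fix normalizer_eq_top_of_normal e⟩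

omit [Fintype N] in
theorem cj_eq_self_of_mem_cen_top {k : Type*} [CommRing k] {z : CA k G}
    (hz : z ∈ CA.cen (⊤ : Subgroup G)) (x : G) : CA.cj x z = z :=
  CA.mem_fix_iff_cj.mp hz.2 x (Subgroup.mem_top _)

omit [Fintype N] in
theorem lam_orbSum_self [N.Normal] {e : CA (ResField M) G} (he : CA.IsBlk N e) :
    CA.lam N e (CA.orbSum ⊤ N e) = 1 := by
  have hc : CA.orbSum ⊤ N e ∈ CA.cen N :=
    mem_cen_of_mem_cen_top (orbSum_mem_cen_top e) (CA.orbSum_mem_supp _ _ _)
  rw [← CA.mul_eq_self_iff_lam he hc (CA.orbSum_idem _ _ _), CA.cen_comm he.mem hc]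
  exact CA.orbSum_mul_of_mem (CA.self_mem_orb he)

/-- If `ε_B` kills `ε_b`, it kills the orbit sum. -/
theorem mul_orbSum_eq_zero {B : Set (IrrCharacter G)} {e : CA (ResField M) G}
    (h : eps M B * e = 0) : eps M B * CA.orbSum ⊤ N e = 0 := by
  rw [CA.orbSum, Finset.mul_sum]
  refine Finset.sum_eq_zero fun e' he' => ?_
  obtain ⟨-, x, -, rfl⟩ := CA.mem_orb.mp he'
  rw [← cj_eq_self_of_mem_cen_top (eps_mem_cen B) x, ← map_mul, h, map_zero]

theorem Agree.mul_ne_zero [N.Normal] {B : Set (IrrCharacter G)} (hB : IsPBlock M B)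
    {b : Set (IrrCharacter N)} (hb : IsPBlock M b) (h : Agree M B b) :
    eps M B * epsS M N b ≠ 0 := by
  intro h0
  have hε := isBlk_epsS hb
  have hεB := isBlk_eps hB
  have h1 := h.lam_eq hB hb (orbSum_mem_cen_top (epsS M N b)) (CA.orbSum_mem_supp _ _ _)
  rw [lam_orbSum_self hε, ← CA.lam_mul_self hεB (orbSum_mem_cen_top _),
    CA.cen_comm (orbSum_mem_cen_top _) hεB.mem, mul_orbSum_eq_zero h0, CA.lam_zero hεB] at h1
  exact zero_ne_one h1

theorem agree_of_mul_ne_zero [N.Normal] {B : Set (IrrCharacter G)} (hB : IsPBlock M B)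
    {b : Set (IrrCharacter N)} (hb : IsPBlock M b) (h : eps M B * epsS M N b ≠ 0) :
    Agree M B b := by
  intro n
  have hε := isBlk_epsS hb
  have hεB := isBlk_eps hB
  set z : CA (ResField M) G := CA.clsSum ⊤ (n : G) with hz
  have hzc : z ∈ CA.cen (⊤ : Subgroup G) := CA.clsSum_mem_cen (Subgroup.mem_top _)
  have hzN : z ∈ CA.cen N := mem_cen_of_mem_cen_top hzc (clsSum_mem_supp_of_normal n.2)
  set c := CA.lam ⊤ (eps M B) z with hc
  set c' := CA.lam N (epsS M N b) z with hc'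
  have n1 := CA.lam_spec hεB hzc
  have n2 := CA.lam_spec hε hzN
  rw [← hc] at n1
  rw [← hc'] at n2
  have comm : ∀ a ∈ (CA.cen (⊤ : Subgroup G) : Subalgebra (ResField M) (CA (ResField M) G)),
      ∀ w : CA (ResField M) G, Commute a w :=
    fun a ha w => CA.commute_of_fix_of_supp ha.2 (CA.mem_supp_top w)
  set w := eps M B * epsS M N b with hw
  have hww : w * w = w := by
    rw [hw]
    calc eps M B * epsS M N b * (eps M B * epsS M N b)
        = eps M B * (epsS M N b * eps M B) * epsS M N b := by simp only [mul_assoc]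
      _ = eps M B * (eps M B * epsS M N b) * epsS M N b := by
          rw [(comm _ hεB.mem (epsS M N b)).eq]
      _ = (eps M B * eps M B) * (epsS M N b * epsS M N b) := by simp only [mul_assoc]
      _ = _ := by rw [hεB.idem, hε.idem]
  -- the two nilpotent elements
  have m1 : IsNilpotent ((z * eps M B - c • eps M B) * epsS M N b) := by
    apply Commute.isNilpotent_mul_right _ n1
    exact comm _ (Subalgebra.sub_mem _ (Subalgebra.mul_mem _ hzc hεB.mem)
      (Subalgebra.smul_mem _ hεB.mem _)) _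
  have m2 : IsNilpotent (eps M B * (z * epsS M N b - c' • epsS M N b)) := by
    apply Commute.isNilpotent_mul_left _ n2
    exact comm _ hεB.mem _
  have e1 : (z * eps M B - c • eps M B) * epsS M N b = z * w - c • w := by
    rw [hw, sub_mul, smul_mul_assoc, mul_assoc]
  have e2 : eps M B * (z * epsS M N b - c' • epsS M N b) = z * w - c' • w := by
    rw [hw, mul_sub, mul_smul_comm, ← mul_assoc, ← (comm _ hzc (eps M B)).eq, mul_assoc]
  rw [e1] at m1
  rw [e2] at m2
  have hcomm : Commute (z * w - c' • w) (z * w - c • w) := by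
    have h1 : Commute (z * w) w := ((comm _ hzc w).mul_left (Commute.refl w))
    have h2 : Commute (z * w) (z * w) := Commute.refl _
    refine Commute.sub_left (Commute.sub_right h2 (h1.smul_right c)) ?_
    refine Commute.sub_right (h1.symm.smul_left c') ?_
    exact ((Commute.refl w).smul_left c').smul_right c
  have m3 := hcomm.isNilpotent_sub m2 m1
  have e3 : z * w - c' • w - (z * w - c • w) = (c - c') • w := by
    rw [sub_smul]; abel
  rw [e3] at m3
  by_contra hne
  have hcc : c - c' ≠ 0 := sub_ne_zero.mpr hne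
  obtain ⟨k, hk⟩ := m3
  have hwk : ∀ k : ℕ, k ≠ 0 → w ^ k = w := by
    intro k hk
    induction k with
    | zero => exact absurd rfl hk
    | succ k ih =>
      by_cases hk0 : k = 0
      · subst hk0; simp
      · rw [pow_succ, ih hk0, hww]
  rw [smul_pow] at hk
  by_cases hk0 : k = 0
  · subst hk0
    simp only [pow_zero, one_smul] at hk
    apply h
    rw [← mul_one w, hk, mul_zero]
  · rw [hwk k hk0] at hk
    rcases smul_eq_zero.mp hk with h1 | h1
    · exact hcc (pow_eq_zero_iff hk0 |>.mp h1)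
    · exact h h1

/-- If two blocks of `N` have the same central character on the `G`-classes, they are conjugate. -/
theorem exists_conjSet_eq [hN : N.Normal] {b b₁ : Set (IrrCharacter N)} (hb : IsPBlock M b)
    (hb₁ : IsPBlock M b₁)
    (h : CA.lam N (epsS M N b₁) (CA.orbSum ⊤ N (epsS M N b)) = 1) :
    ∃ x : G, b₁ = conjSet N N x b := by
  have hε := isBlk_epsS hb
  have hε₁ := isBlk_epsS hb₁
  have hc : CA.orbSum ⊤ N (epsS M N b) ∈ CA.cen N :=
    mem_cen_of_mem_cen_top (orbSum_mem_cen_top _) (CA.orbSum_mem_supp _ _ _)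
  have h1 := (CA.mul_eq_self_iff_lam hε₁ hc (CA.orbSum_idem _ _ _)).mpr h
  obtain ⟨e', he', hne⟩ : ∃ e' ∈ CA.orb ⊤ N (epsS M N b), epsS M N b₁ * e' ≠ 0 := by
    by_contra hcon
    push Not at hcon
    apply hε₁.ne_zero
    rw [← h1, CA.orbSum, Finset.mul_sum]
    exact Finset.sum_eq_zero hcon
  obtain ⟨hblk, x, -, rfl⟩ := CA.mem_orb.mp he'
  have h2 := hε₁.eq_of_mul_ne_zero hblk hne
  have hK : N = CA.cjs x N :=
    (CA.cjs_eq_of_mem_normalizer (normalizer_eq_top_of_normal (Subgroup.mem_top x))).symm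
  rw [← epsS_conjSet hK] at h2
  exact ⟨x, epsS_injective hb₁ (isPBlock_conjSet hK hb) h2⟩

theorem exists_conjSet_eq_of_agree [hN : N.Normal] {B : Set (IrrCharacter G)} (hB : IsPBlock M B)
    {b b₁ : Set (IrrCharacter N)} (hb : IsPBlock M b) (hb₁ : IsPBlock M b₁)
    (h : Agree M B b) (h₁ : Agree M B b₁) : ∃ x : G, b₁ = conjSet N N x b := by
  apply exists_conjSet_eq hb hb₁
  rw [← h₁.lam_eq hB hb₁ (orbSum_mem_cen_top _) (CA.orbSum_mem_supp _ _ _),
    h.lam_eq hB hb (orbSum_mem_cen_top _) (CA.orbSum_mem_supp _ _ _),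
    lam_orbSum_self (isBlk_epsS hb)]

/-- every irreducible character of `G` has an irreducible constituent on `N` -/
theorem exists_constituent (χ : IrrCharacter G) :
    ∃ θ : IrrCharacter N, classInner (fun n : N => (χ : G → ℂ) n) (θ : N → ℂ) ≠ 0 := by
  obtain ⟨m, hm, hm2⟩ := H2.exists_mult (isCharacter_restrict (isCharacter_of_irr χ.2) N)
  by_contra hcon
  push Not at hcon
  have h0 : ∀ θ, (m θ : ℂ) = 0 := fun θ => by rw [← hm2 θ]; exact hcon θ
  have h1 := congrFun hm 1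
  simp only [Finset.sum_apply, h0, zero_smul, Pi.zero_apply, Finset.sum_const_zero] at h1
  exact irr_apply_one_ne_zero χ h1

theorem covers_of_agree [hN : N.Normal] {B : Set (IrrCharacter G)} (hB : IsPBlock M B)
    {b : Set (IrrCharacter N)} (hb : IsPBlock M b) (h : Agree M B b) : Covers B b := by
  obtain ⟨χ, hχ⟩ := pb_nonempty hB
  obtain ⟨θ₁, hθ₁⟩ := exists_constituent (N := N) χ
  have hb₁ : IsPBlock M (blockOf M (θ₁ : N → ℂ)) := ⟨θ₁, rfl⟩
  have h₁ := agree_of_constituent hB hb₁ hχ (mem_blockOf_self θ₁) hθ₁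
  obtain ⟨x, hx⟩ := exists_conjSet_eq_of_agree hB hb hb₁ h h₁
  have h2 : θ₁ ∈ conjSet N N x b := by rw [← hx]; exact mem_blockOf_self θ₁
  obtain ⟨θ, hθ, hc⟩ := h2
  refine ⟨χ, hχ, θ, hθ, ?_⟩
  have h3 : (θ : N → ℂ) = H2.conjFun hN (θ₁ : N → ℂ) x := by
    funext c
    rw [H2.conjFun_apply]
    exact (hc c ⟨x * c * x⁻¹, hN.conj_mem c c.2 x⟩ rfl).symm
  rw [h3, H2.classInner_restrict_conjFun hN (isClassFunction_of_irr χ.2)]
  exact hθ₁

theorem covers_iff_agree [N.Normal] {B : Set (IrrCharacter G)} (hB : IsPBlock M B)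
    {b : Set (IrrCharacter N)} (hb : IsPBlock M b) : Covers B b ↔ Agree M B b :=
  ⟨fun h => h.agree hB hb, covers_of_agree hB hb⟩

theorem covers_iff_mul_ne_zero [N.Normal] {B : Set (IrrCharacter G)} (hB : IsPBlock M B)
    {b : Set (IrrCharacter N)} (hb : IsPBlock M b) :
    Covers B b ↔ eps M B * epsS M N b ≠ 0 :=
  ⟨fun h => (h.agree hB hb).mul_ne_zero hB hb,
    fun h => covers_of_agree hB hb (agree_of_mul_ne_zero hB hb h)⟩

end Cfsg.Agent.H25
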