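import Mathlib
import Cfsg.Agent.Lib.Helper10.LinIrr
import Cfsg.Agent.Lib.Helper10.CliffCorr
import Cfsg.Agent.H6.Gallagher
import Cfsg.Agent.H25.Codeg
import Cfsg.Agent.H25.FSInd2

set_option autoImplicit false

namespace Cfsg.Agent.H25.FSInd

open Cfsg Cfsg.Agent.CharLib Cfsg.Agent.Lib.Helper10 Cfsg.Agent.Lib.Helper23 Cfsg.Agent.H25
open scoped ComplexConjugate

universe u

/-- Counting real linear characters against strongly real characters induced from the stabiliser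
of an extendible character of a normal subgroup on which all linear characters are trivial. -/
theorem card_lin_le {G : Type u} [Group G] [Fintype G] (N I : Subgroup G) (hN : N.Normal)
    [Fintype N] [Fintype I] (φ : IrrCharacter N)
    (hT : ∀ g : G, g ∈ I ↔ H2.conjFun hN (φ : N → ℂ) g = φ) (hNI : N ≤ I)
    (ψ : IrrCharacter I) (hψ : ∀ n : N, (ψ : I → ℂ) (Subgroup.inclusion hNI n) = (φ : N → ℂ) n)
    (htriv : ∀ (l : G →* ℂˣ), ∀ n ∈ N, l n = 1)
    (hfs : ∀ l : G →* ℂˣ, (∀ g : G, l (g * g) = 1) →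
      (Nat.card G : ℂ)⁻¹ * ∑ g : G,
        indFun I ((fun x : I => ((l x : ℂˣ) : ℂ)) * (ψ : I → ℂ)) (g * g) = 1) :
    Nat.card {χ : Cfsg.IrrCharacter G // Cfsg.charDegree (χ : G → ℂ) = 1 ∧
        (Nat.card G : ℂ)⁻¹ * ∑ g : G, (χ : G → ℂ) (g * g) = 1} ≤
      I.index * Nat.card {χ : Cfsg.IrrCharacter G // Cfsg.charDegree (χ : G → ℂ)
        = Cfsg.charDegree (φ : ↥N → ℂ) * I.index ∧
        (Nat.card G : ℂ)⁻¹ * ∑ g : G, (χ : G → ℂ) (g * g) = 1} := by
  classical
  have hψN : (fun n : N.subgroupOf I => (ψ : I → ℂ) n) = resSub N I φ := by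
    funext n
    exact hψ ⟨((n : I) : G), Subgroup.mem_subgroupOf.mp n.2⟩
  have hirrN : IsIrrCharacter (N.subgroupOf I) (fun n : N.subgroupOf I => (ψ : I → ℂ) n) := by
    rw [hψN]; exact isIrrCharacter_resSub hNI φ.2
  have hgal := Cfsg.Agent.H6.gallagher (N.subgroupOf I) ψ.2 hirrN
  rw [hψN] at hgal
  let β : (G →* ℂˣ) → (I → ℂ) := fun l x => ((l x : ℂˣ) : ℂ)
  have hβ : ∀ l, β l ∈ {β : I → ℂ | IsIrrCharacter I β ∧
      classInner (indFun (N.subgroupOf I) (fun _ => (1 : ℂ))) β ≠ 0} := by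
    intro l
    have h1 : IsIrrCharacter I (β l) := isIrrCharacter_of_hom (l.comp I.subtype)
    refine ⟨h1, ?_⟩
    rw [H2.frobenius_reciprocity _ _ (isClassFunction_of_irr h1)]
    have h2 : (fun h : N.subgroupOf I => β l h) = fun _ => 1 := by
      funext h
      show ((l _ : ℂˣ) : ℂ) = 1
      rw [htriv l _ (Subgroup.mem_subgroupOf.mp h.2)]; rfl
    rw [h2, classInner_irr_self isIrrCharacter_one]; exact one_ne_zero
  have hcc := fun l l' => clifford_corr N I hN φ φ.2 hT hNI (β l * ψ) (β l' * ψ)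
    (hgal.mapsTo (hβ l)).1 (hgal.mapsTo (hβ l')).1 (hgal.mapsTo (hβ l)).2 (hgal.mapsTo (hβ l')).2
  have hind : ∀ l, IsIrrCharacter G (indFun I (β l * ψ)) := fun l => (hcc l l).1
  have hdeg : ∀ l, charDegree (indFun I (β l * ψ)) = charDegree (φ : N → ℂ) * I.index := by
    intro l
    apply Cfsg.Agent.H25.charDegree_of_apply_one
    rw [H2.indFun_apply_one]
    have h1 : (β l * ψ) 1 = (φ : N → ℂ) 1 := by
      show ((l _ : ℂˣ) : ℂ) * (ψ : I → ℂ) 1 = _
      have h2 := hψ 1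
      rw [map_one] at h2
      rw [h2]
      simp
    rw [h1, ← charDegree_cast_irr φ]
    push_cast; ring
  have hsq : ∀ (χ : IrrCharacter G) (h1 : (χ : G → ℂ) 1 = 1),
      (Nat.card G : ℂ)⁻¹ * ∑ g : G, (χ : G → ℂ) (g * g) = 1 → ∀ g : G, homOfLin χ h1 (g * g) = 1 := by
    intro χ h1 hν g
    set l := homOfLin χ h1 with hl
    have h2 : IsIrrCharacter G (fun g => (((l * l) g : ℂˣ) : ℂ)) := isIrrCharacter_of_hom (l * l)
    have h3 : classInner (fun g => (((l * l) g : ℂˣ) : ℂ)) (fun _ => (1 : ℂ)) = 1 := by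
      rw [classInner]
      refine Eq.trans ?_ hν
      congr 1
      refine Finset.sum_congr rfl fun s _ => ?_
      rw [map_one, mul_one]
      show (((l s * l s : ℂˣ)) : ℂ) = _
      rw [← map_mul]
      rfl
    have h4 : (fun g => (((l * l) g : ℂˣ) : ℂ)) = fun _ => (1 : ℂ) := by
      by_contra hne
      rw [classInner_irr_ne h2 isIrrCharacter_one hne] at h3
      exact zero_ne_one h3
    have h5 := congrFun h4 g
    rw [map_mul]
    exact Units.ext h5
  have hinj : ∀ l l', indFun I (β l * ψ) = indFun I (β l' * ψ) → ∀ x ∈ I, l x = l' x := by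
    intro l l' h x hx
    have h1 : β l * ψ = β l' * ψ := by
      by_contra hne
      have h2 := (hcc l l').2 hne
      rw [← h, classInner_irr_self (hind l)] at h2
      exact one_ne_zero h2
    have h2 := hgal.injOn (hβ l) (hβ l') h1
    have h3 := congrFun h2 ⟨x, hx⟩
    exact Units.ext h3
  let F : {χ : Cfsg.IrrCharacter G // Cfsg.charDegree (χ : G → ℂ) = 1 ∧
        (Nat.card G : ℂ)⁻¹ * ∑ g : G, (χ : G → ℂ) (g * g) = 1} →
      {χ : Cfsg.IrrCharacter G // Cfsg.charDegree (χ : G → ℂ)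
        = Cfsg.charDegree (φ : ↥N → ℂ) * I.index ∧
        (Nat.card G : ℂ)⁻¹ * ∑ g : G, (χ : G → ℂ) (g * g) = 1} :=
    fun χ => ⟨⟨indFun I (β (homOfLin χ.1 (apply_one_of_charDegree_eq_one χ.1 χ.2.1)) * ψ), hind _⟩,
      hdeg _, hfs _ (hsq χ.1 _ χ.2.2)⟩
  refine le_of_eq_of_le Nat.card_eq_fintype_card
    (le_of_le_of_eq ?_ (congrArg _ Nat.card_eq_fintype_card.symm))
  calc Fintype.card {χ : Cfsg.IrrCharacter G // Cfsg.charDegree (χ : G → ℂ) = 1 ∧
        (Nat.card G : ℂ)⁻¹ * ∑ g : G, (χ : G → ℂ) (g * g) = 1}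
      = (Finset.univ : Finset {χ : Cfsg.IrrCharacter G //
          Cfsg.charDegree (χ : G → ℂ) = 1 ∧
        (Nat.card G : ℂ)⁻¹ * ∑ g : G, (χ : G → ℂ) (g * g) = 1}).card := rfl
    _ ≤ I.index * (Finset.univ.image F).card := by
        apply Finset.card_le_mul_card_image
        intro a ha
        obtain ⟨χ₀, -, rfl⟩ := Finset.mem_image.1 ha
        refine le_trans ?_ (card_hom_agree_le I
          (homOfLin χ₀.1 (apply_one_of_charDegree_eq_one χ₀.1 χ₀.2.1)))
        rw [← Fintype.card_subtype, ← Nat.card_eq_fintype_card]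
        refine Nat.card_le_card_of_injective
          (fun χ : {χ : {χ : Cfsg.IrrCharacter G // Cfsg.charDegree (χ : G → ℂ) = 1 ∧
        (Nat.card G : ℂ)⁻¹ * ∑ g : G, (χ : G → ℂ) (g * g) = 1} //
              F χ = F χ₀} =>
            (⟨homOfLin χ.1.1 (apply_one_of_charDegree_eq_one χ.1.1 χ.1.2.1),
              hinj _ _ (congrArg (fun z => (z.1 : G → ℂ)) χ.2)⟩ :
              {l : G →* ℂˣ // ∀ x ∈ I, l x =
                (homOfLin χ₀.1 (apply_one_of_charDegree_eq_one χ₀.1 χ₀.2.1)) x})) ?_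
        intro a b hab
        have h1 : homOfLin a.1.1 (apply_one_of_charDegree_eq_one a.1.1 a.1.2.1)
            = homOfLin b.1.1 (apply_one_of_charDegree_eq_one b.1.1 b.1.2.1) :=
          congrArg Subtype.val hab
        apply Subtype.ext
        apply Subtype.ext
        apply Subtype.ext
        funext g
        have h2 := congrArg (fun l : G →* ℂˣ => ((l g : ℂˣ) : ℂ)) h1
        exact h2
    _ ≤ I.index * Fintype.card {χ : Cfsg.IrrCharacter G // Cfsg.charDegree (χ : G → ℂ)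
        = Cfsg.charDegree (φ : ↥N → ℂ) * I.index ∧
        (Nat.card G : ℂ)⁻¹ * ∑ g : G, (χ : G → ℂ) (g * g) = 1} :=
        Nat.mul_le_mul_left _ (Finset.card_le_univ _)

end Cfsg.Agent.H25.FSInd
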