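import Cfsg.Agent.BlockLib.KG.Index
import Cfsg.Agent.BlockLib.KG.NormalP

/-!
# Fong's theorem on blocks covering an invariant block (group algebra level)
-/

set_option autoImplicit false

namespace Cfsg.Agent.H25

open Cfsg Cfsg.Agent.BlockLib Cfsg.Agent.BlockLib.CA

universe u v

variable {k : Type u} {G : Type v} [Field k] [Group G] [Fintype G]

local notation "C(" P ")" => Subgroup.centralizer (SetLike.coe P)
local notation "N(" P ")" => Subgroup.normalizer (SetLike.coe P)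
local notation "Ce(" g ")" => Subgroup.centralizer (Singleton.singleton g : Set _)

variable [Split k G]

/-- the central character of an invariant block `ε` of the normal subgroup `C` on a class sum of
`G` inside `C`. -/
theorem lam_clsSum_top {C : Subgroup G} [hCn : C.Normal] {ε : CA k G}
    (hC : IsBlk C ε) (hfix : ε ∈ fix (⊤ : Subgroup G)) {g : G} (hgC : g ∈ C) :
    lam C ε (clsSum ⊤ g) = ((C ⊔ Ce(g)).index : k) * lam C ε (clsSum C g) := by
  classical
  have hcjsC : ∀ t : G, cjs t C = C := fun t =>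
    cjs_eq_of_mem_normalizer (by rw [Subgroup.normalizer_eq_top]; trivial)
  have hconjC : ∀ t : G, t * g * t⁻¹ ∈ C := fun t => hCn.conj_mem g hgC t
  obtain ⟨Y, hY⟩ : ∃ Y : Subgroup G, Y = C ⊔ Ce(g) := ⟨_, rfl⟩
  have hφ : ∀ t t' : G, (clsSum C (t * g * t⁻¹) : CA k G) = clsSum C (t' * g * t'⁻¹) ↔
      t⁻¹ * t' ∈ Y := by
    intro t t'
    constructor
    · intro h
      have h1 : (clsSum C (t * g * t⁻¹) : CA k G) (t' * g * t'⁻¹) ≠ 0 := by
        rw [h, clsSum_self]; exact one_ne_zero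
      obtain ⟨c, hc, hce⟩ := (clsSum_ne_zero_iff (k := k)).mp h1
      have ha : t'⁻¹ * c * t ∈ Ce(g) := by
        rw [Subgroup.mem_centralizer_singleton_iff]
        have : t'⁻¹ * (c * (t * g * t⁻¹) * c⁻¹) * t' = g := by rw [hce]; group
        calc t'⁻¹ * c * t * g = t'⁻¹ * (c * (t * g * t⁻¹) * c⁻¹) * t' * (t'⁻¹ * c * t) := by group
          _ = g * (t'⁻¹ * c * t) := by rw [this]
      have h2 : t⁻¹ * t' = (t'⁻¹ * c * t)⁻¹ * (t'⁻¹ * c * t'⁻¹⁻¹) := by group
      rw [h2, hY]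
      exact Subgroup.mul_mem _ (Subgroup.inv_mem _ ((le_sup_right : Ce(g) ≤ C ⊔ Ce(g)) ha))
        ((le_sup_left : C ≤ C ⊔ Ce(g)) (hCn.conj_mem c hc t'⁻¹))
    · intro h
      rw [hY] at h
      obtain ⟨c, hc, a, ha, hca⟩ := Subgroup.mem_sup_of_normal_left.mp h
      rw [Subgroup.mem_centralizer_singleton_iff] at ha
      have ht' : t' = t * (c * a) := by rw [hca]; group
      have h3 : a * g * a⁻¹ = g := by rw [ha]; group
      have h4 : t' * g * t'⁻¹ = (t * c * t⁻¹) * (t * g * t⁻¹) * (t * c * t⁻¹)⁻¹ := by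
        calc t' * g * t'⁻¹ = t * c * (a * g * a⁻¹) * c⁻¹ * t⁻¹ := by rw [ht']; group
          _ = (t * c * t⁻¹) * (t * g * t⁻¹) * (t * c * t⁻¹)⁻¹ := by rw [h3]; group
      rw [h4, clsSum_conj (hCn.conj_mem c hc t)]
  have : Fintype (G ⧸ Y) := Fintype.ofFinite _
  let ψ : G ⧸ Y → CA k G := Quotient.lift (fun t => (clsSum C (t * g * t⁻¹) : CA k G)) (by
    intro t t' h
    exact (hφ t t').mpr (QuotientGroup.leftRel_apply.mp h))
  have hψ : ∀ t : G, ψ (QuotientGroup.mk t) = clsSum C (t * g * t⁻¹) := fun t => rfl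
  have hsum : (clsSum ⊤ g : CA k G) = ∑ q : G ⧸ Y, ψ q := by
    ext x
    rw [CA.sum_apply]
    by_cases hx : ∃ h ∈ (⊤ : Subgroup G), h * g * h⁻¹ = x
    · rw [clsSum_apply_of hx]
      obtain ⟨t, -, rfl⟩ := hx
      rw [Finset.sum_eq_single (QuotientGroup.mk t : G ⧸ Y)]
      · rw [hψ, clsSum_self]
      · intro q _ hq
        induction q using QuotientGroup.induction_on with
        | H t' =>
          rw [hψ]
          by_contra hne
          apply hq
          obtain ⟨c, hc, hce⟩ := (clsSum_ne_zero_iff (k := k)).mp hne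
          have : (clsSum C (t' * g * t'⁻¹) : CA k G) = clsSum C (t * g * t⁻¹) := by
            rw [← hce, clsSum_conj hc]
          exact QuotientGroup.eq.mpr ((hφ t' t).mp this)
      · intro h; exact absurd (Finset.mem_univ _) h
    · rw [clsSum_apply_of_not hx]
      symm
      apply Finset.sum_eq_zero
      intro q _
      induction q using QuotientGroup.induction_on with
      | H t' =>
        rw [hψ, clsSum_apply_of_not]
        rintro ⟨c, hc, hce⟩
        exact hx ⟨c * t', trivial, by rw [← hce]; group⟩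
  have hlam2 : ∀ q, lam C ε (ψ q) = lam C ε (clsSum C g) := by
    intro q
    induction q using QuotientGroup.induction_on with
    | H t =>
      rw [hψ]
      have h1 := lam_cj t hC (clsSum_mem_cen (k := k) hgC)
      rwa [cj_clsSum, hcjsC, mem_fix_iff_cj.mp hfix t trivial] at h1
  have hmem : ∀ q ∈ (Finset.univ : Finset (G ⧸ Y)), ψ q ∈ cen C := by
    intro q _
    induction q using QuotientGroup.induction_on with
    | H t => rw [hψ]; exact clsSum_mem_cen (hconjC t)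
  rw [hsum, lam_sum hC _ _ hmem, Finset.sum_congr rfl (fun q _ => hlam2 q),
    Finset.sum_const, Finset.card_univ, nsmul_eq_mul, ← hY, Subgroup.index,
    Nat.card_eq_fintype_card]

omit [Split k G] in
/-- A block of `G` not annihilated by the invariant block `ε` of `C` absorbs it. -/
theorem mul_eq_of_mul_ne_zero {C : Subgroup G} {ε β : CA k G}
    (hC : IsBlk C ε) (hfix : ε ∈ fix (⊤ : Subgroup G)) (hβ : IsBlk ⊤ β) (h : β * ε ≠ 0) :
    β * ε = β := by
  have hε : ε ∈ cen (⊤ : Subgroup G) := ⟨mem_supp_top _, hfix⟩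
  rcases hβ.prim ε hε hC.idem with h1 | h1
  · exact h1
  · exact absurd h1 h

theorem lam_top_eq {C : Subgroup G} {ε β : CA k G}
    (hC : IsBlk C ε) (hβ : IsBlk ⊤ β) (h : β * ε = β)
    {z : CA k G} (hz : z ∈ cen (⊤ : Subgroup G)) (hs : z ∈ supp C) :
    lam ⊤ β z = lam C ε z := by
  have hzC : z ∈ cen C := ⟨hs, fix_anti le_top hz.2⟩
  apply lam_unique hβ hz
  have h1 := lam_spec hC hzC
  have hcomm : Commute (z * ε - lam C ε z • ε) β := by
    have : ∀ a : CA k G, Commute a β := fun a =>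
      (commute_of_fix_of_supp hβ.mem.2 (mem_supp_top a)).symm
    exact this _
  have h2 := hcomm.isNilpotent_mul_right h1
  have e : (z * ε - lam C ε z • ε) * β = z * β - lam C ε z • β := by
    have hεβ : ε * β = β := by
      have : Commute ε β := (commute_of_fix_of_supp hβ.mem.2 (mem_supp_top ε)).symm
      rw [this.eq, h]
    rw [sub_mul, mul_assoc, hεβ, smul_mul_assoc, hεβ]
  rwa [e] at h2

omit [Fintype G] [Split k G] [Field k] in
theorem isSylIn_of_not_dvd_relIndex [Finite G] {p : ℕ} [Fact p.Prime] {D A : Subgroup G}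
    (hD : IsPGroup p D) (hDA : D ≤ A) (h : ¬ p ∣ D.relIndex A) : IsSylIn p D A := by
  refine ⟨hD, hDA, fun Q hQ hQA hDQ => ?_⟩
  have h1 := Subgroup.relIndex_mul_relIndex D Q A hDQ hQA
  have h2 : ¬ p ∣ D.relIndex Q := fun hd => h (by rw [← h1]; exact Dvd.dvd.mul_right hd _)
  obtain ⟨n, hn⟩ := IsPGroup.iff_card.mp hQ
  have h3 : D.relIndex Q ∣ p ^ n := by
    rw [← hn]; exact Subgroup.index_dvd_card _
  obtain ⟨j, -, hj⟩ := (Nat.dvd_prime_pow Fact.out).mp h3
  have hj0 : j = 0 := by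
    by_contra hne
    exact h2 (by rw [hj]; exact dvd_pow_self p hne)
  rw [hj0, pow_zero] at hj
  exact le_antisymm (Subgroup.relIndex_eq_one.mp hj) hDQ

omit [Fintype G] [Split k G] [Field k] in
theorem isSylIn_inf_normal [Finite G] {p : ℕ} [Fact p.Prime] {C D A : Subgroup G} [C.Normal]
    (hD : IsSylIn p D A) : IsSylIn p (D ⊓ C) (C ⊓ A) := by
  have hDA : D ≤ A := hD.2.1
  have h1 : C.relIndex (D ⊔ C) * (D ⊔ C).relIndex (A ⊔ C) = C.relIndex (A ⊔ C) :=
    Subgroup.relIndex_mul_relIndex _ _ _ le_sup_right (sup_le_sup_right hDA C)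
  rw [Subgroup.relIndex_sup_right, Subgroup.relIndex_sup_right] at h1
  have h2 : (C ⊓ D).relIndex D * D.relIndex A = (C ⊓ D).relIndex A :=
    Subgroup.relIndex_mul_relIndex _ _ _ inf_le_right hDA
  have h3 : (C ⊓ D).relIndex (C ⊓ A) * (C ⊓ A).relIndex A = (C ⊓ D).relIndex A :=
    Subgroup.relIndex_mul_relIndex _ _ _ (inf_le_inf_left C hDA) inf_le_right
  rw [Subgroup.inf_relIndex_right] at h2 h3
  have h4 : C.relIndex D * D.relIndex A =
      C.relIndex D * ((C ⊓ D).relIndex (C ⊓ A) * (D ⊔ C).relIndex (A ⊔ C)) := by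
    rw [h2, ← h3, ← h1]; ring
  have hpos : 0 < C.relIndex D := Nat.pos_of_ne_zero Subgroup.index_ne_zero_of_finite
  have h5 := Nat.eq_of_mul_eq_mul_left hpos h4
  rw [inf_comm D C]
  apply isSylIn_of_not_dvd_relIndex (hD.1.to_le inf_le_right) (inf_le_inf_left C hDA)
  intro hdvd
  apply hD.not_dvd_relIndex
  rw [h5]
  exact Dvd.dvd.mul_right hdvd _

variable {p : ℕ} [Fact p.Prime] [CharP k p]

/-- An invariant block of a normal subgroup `C` has a defect class `g` with `[G : C C_G(g)]`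
prime to `p`. -/
theorem exists_good_class {C : Subgroup G} [hCn : C.Normal] {ε : CA k G}
    (hC : IsBlk C ε) (hfix : ε ∈ fix (⊤ : Subgroup G)) :
    ∃ g, ε g ≠ 0 ∧ g ∈ C ∧ lam C ε (clsSum ⊤ g) ≠ 0 := by
  have hε : ε ∈ cen (⊤ : Subgroup G) := ⟨mem_supp_top _, hfix⟩
  obtain ⟨s, hs, hsum⟩ := exists_eq_sum_clsSum hε
  have hmem : ∀ g ∈ s, g ∈ C := fun g hg => by
    by_contra h; exact hs g hg (hC.mem.1 g h)
  have hcen : ∀ g ∈ s, (clsSum ⊤ g : CA k G) ∈ cen C := fun g hg =>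
    ⟨fun x hx => clsSum_apply_of_not (by
      rintro ⟨t, -, rfl⟩; exact hx (hCn.conj_mem g (hmem g hg) t)),
      fix_anti le_top (clsSum_mem_cen (H := ⊤) trivial).2⟩
  by_contra hcon
  have h1 : lam C ε ε = 0 := by
    have h0 : lam C ε ε = lam C ε (∑ g ∈ s, ε g • (clsSum ⊤ g : CA k G)) := by rw [← hsum]
    rw [h0, lam_sum hC _ _ fun g hg => Subalgebra.smul_mem _ (hcen g hg) _]
    refine Finset.sum_eq_zero fun g hg => ?_
    rw [lam_smul hC (hcen g hg)]
    by_contra h2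
    exact hcon ⟨g, hs g hg, hmem g hg, fun h3 => h2 (by rw [h3, mul_zero])⟩
  rw [lam_self hC] at h1
  exact one_ne_zero h1

omit [Fact p.Prime] in
theorem good_class_spec {C : Subgroup G} [hCn : C.Normal] {ε : CA k G}
    (hC : IsBlk C ε) (hfix : ε ∈ fix (⊤ : Subgroup G)) {g : G} (h0 : ε g ≠ 0) (hg : g ∈ C)
    (h : lam C ε (clsSum ⊤ g) ≠ 0) : IsDefCls C ε g ∧ ¬ p ∣ (C ⊔ Ce(g)).index := by
  rw [lam_clsSum_top hC hfix hg] at h
  refine ⟨⟨h0, right_ne_zero_of_mul h⟩, fun hd => left_ne_zero_of_mul h ?_⟩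
  exact (CharP.cast_eq_zero_iff k p _).mpr hd

/-- some block of `G` covering `ε` has `g` as defect class -/
theorem exists_block_isDefCls {C : Subgroup G} [hCn : C.Normal] {ε : CA k G}
    (hC : IsBlk C ε) (hfix : ε ∈ fix (⊤ : Subgroup G)) {g : G} (h0 : ε g ≠ 0) (hg : g ∈ C)
    (h : lam C ε (clsSum ⊤ g) ≠ 0) : ∃ β, IsBlk ⊤ β ∧ β * ε = β ∧ IsDefCls ⊤ β g := by
  classical
  have hs : (clsSum ⊤ g : CA k G) ∈ supp C := fun x hx => clsSum_apply_of_not (by
      rintro ⟨t, -, rfl⟩; exact hx (hCn.conj_mem g hg t))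
  have h1 : ε = ∑ β ∈ blks (⊤ : Subgroup G), β * ε := by
    rw [← Finset.sum_mul, sum_blks, one_mul]
  have h2 : ∃ β ∈ blks (⊤ : Subgroup G), (β * ε : CA k G) g ≠ 0 := by
    by_contra hcon
    push Not at hcon
    apply h0
    rw [h1, CA.sum_apply]
    exact Finset.sum_eq_zero hcon
  obtain ⟨β, hβ, hne⟩ := h2
  rw [mem_blks] at hβ
  have h3 : β * ε = β := mul_eq_of_mul_ne_zero hC hfix hβ (fun h0 => hne (by rw [h0]; rfl))
  refine ⟨β, hβ, h3, by rwa [h3] at hne, ?_⟩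
  rw [lam_top_eq hC hβ h3 (clsSum_mem_cen trivial) hs]
  exact h

/-- **Fong's theorem**, group algebra form. -/
theorem fong {C : Subgroup G} [hCn : C.Normal] {ε β : CA k G}
    (hC : IsBlk C ε) (hfix : ε ∈ fix (⊤ : Subgroup G)) (hβ : IsBlk ⊤ β) (hβε : β * ε ≠ 0)
    {P : Subgroup G} (hP : IsDefGrp p ⊤ β P)
    (hmax : ∀ β' P', IsBlk ⊤ β' → β' * ε ≠ 0 → IsDefGrp p ⊤ β' P' → Nat.card P' ≤ Nat.card P) :
    ¬ p ∣ (P ⊔ C).index ∧ IsDefGrp p C ε (P ⊓ C) := by
  classical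
  obtain ⟨g, h0, hg, hlam⟩ := exists_good_class hC hfix
  obtain ⟨β₀, hβ₀, hβ₀ε, hdef⟩ := exists_block_isDefCls hC hfix h0 hg hlam
  obtain ⟨P₀, hP₀⟩ := exists_isSylIn p ((⊤ : Subgroup G) ⊓ Ce(g))
  have hcard := hmax β₀ P₀ hβ₀ (by rw [hβ₀ε]; exact hβ₀.ne_zero) ⟨g, hdef, hP₀⟩
  rw [top_inf_eq] at hP₀
  have hs : (clsSum ⊤ g : CA k G) ∈ supp C := fun x hx => clsSum_apply_of_not (by
      rintro ⟨t, -, rfl⟩; exact hx (hCn.conj_mem g hg t))
  have hβε' := mul_eq_of_mul_ne_zero hC hfix hβ hβε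
  have h1 : lam ⊤ β (clsSum ⊤ g) ≠ 0 := by
    rw [lam_top_eq hC hβ hβε' (clsSum_mem_cen trivial) hs]; exact hlam
  have h2 := br_ne_zero_of_lam_ne_zero hβ (clsSum_mem_cen trivial) h1 hP.isPGroup le_top
    (hP.br_ne_zero hβ)
  obtain ⟨x, hxC, hx⟩ := (Cfsg.Agent.BlockLib.CA.br_ne_zero_iff (P := P)
    (a := (clsSum ⊤ g : CA k G))).mp h2
  obtain ⟨y, -, rfl⟩ := (clsSum_ne_zero_iff (k := k)).mp hx
  have hPle : P ≤ Ce(y * g * y⁻¹) := le_centralizer_singleton_iff.mpr hxC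
  -- the conjugate class
  have h0' : ε (y * g * y⁻¹) ≠ 0 := by rw [mem_fix.mp hfix y trivial g]; exact h0
  have hg' : y * g * y⁻¹ ∈ C := hCn.conj_mem g hg y
  have hlam' : lam C ε (clsSum ⊤ (y * g * y⁻¹)) ≠ 0 := by
    rw [clsSum_conj (Subgroup.mem_top y)]; exact hlam
  obtain ⟨hdc, hidx⟩ := good_class_spec (p := p) hC hfix h0' hg' hlam'
  have hSyl : IsSylIn p P Ce(y * g * y⁻¹) := by
    refine ⟨hP.isPGroup, hPle, fun Q hQ hQle hPQ => ?_⟩
    have h3 : cjs y⁻¹ Q ≤ Ce(g) := by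
      rw [← le_cjs_iff, cjs_centralizer_singleton]; exact hQle
    obtain ⟨c, -, hle⟩ := hP₀.exists_conj_le (isPGroup_cjs hQ _) h3
    have h4 : Nat.card Q ≤ Nat.card P₀ := by
      have := Subgroup.card_le_of_le hle
      rwa [card_cjs, card_cjs] at this
    exact (Subgroup.eq_of_le_of_card_ge hPQ (h4.trans hcard)).symm
  refine ⟨?_, y * g * y⁻¹, hdc, isSylIn_inf_normal hSyl⟩
  intro hdvd
  have h5 := Subgroup.relIndex_mul_index
    (show P ⊔ C ≤ Ce(y * g * y⁻¹) ⊔ C from sup_le_sup_right hSyl.2.1 C)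
  rw [← h5] at hdvd
  rcases (Nat.Prime.dvd_mul Fact.out).mp hdvd with h | h
  · exact not_dvd_relIndex_sup hSyl h
  · exact hidx (by rwa [sup_comm])

end Cfsg.Agent.H25
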