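import Cfsg.Agent.H25.IndBlock2
import Cfsg.Agent.CharLib.L.Linear

/-!
# Height zero characters: values on defect classes, linear constituents on defect groups
-/

set_option autoImplicit false

namespace Cfsg.Agent.H25

open Cfsg Cfsg.Agent.BlockLib Cfsg.Agent.CharLib Cfsg.Agent.Lib.Helper23.MinMax
  Cfsg.Agent.Lib.Helper23
open scoped ComplexConjugate

universe u

variable {M : Ideal AlgInt} {G : Type u} [Group G] [Fintype G]

/-- the `p`-part of the size of a defect class is the `p`-part of the degree of a height zero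
character -/
theorem factorization_index_of_isDefectClass {p : ℕ} (hM : IsPModular p M)
    {B : Set (IrrCharacter G)} (hB : IsPBlock M B) {y : G} (hy : IsDefectClass M B y) :
    (Subgroup.centralizer ({y} : Set G)).index.factorization p = minExp p B := by
  have hP := isPrime_of_isPModular hM
  have h1 := (of_isDefectClass hM hB hy).2
  rw [blockDefect_eq] at h1
  have h2 := minExp_le_card (p := p) (pb_nonempty hB)
  have h3 := Subgroup.card_mul_index (Subgroup.centralizer ({y} : Set G))
  have h4 : (Nat.card (Subgroup.centralizer ({y} : Set G))).factorization p +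
      (Subgroup.centralizer ({y} : Set G)).index.factorization p =
      (Nat.card G).factorization p := by
    rw [← h3, Nat.factorization_mul Nat.card_pos.ne' Subgroup.index_ne_zero_of_finite]
    rfl
  omega

/-- general principle: if `ν_p(n) = ν_p(χ(1))` then `n χ(y)/χ(1)` is a unit multiple of `χ(y)` -/
theorem memLocalIdeal_mul_div_iff {p : ℕ} (hM : IsPModular p M) {n d : ℕ} (hn : n ≠ 0) (hd : d ≠ 0)
    (h : n.factorization p = d.factorization p) (x : ℂ) :
    MemLocalIdeal M ((n : ℂ) * x / (d : ℂ)) ↔ MemLocalIdeal M x := by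
  have hP := isPrime_of_isPModular hM
  have hp := hM.1
  have htop := ne_top_of_isPModular hM
  set e := d.factorization p with he
  have hn' : n = p ^ e * (n / p ^ e) := by
    rw [← h]; exact (Nat.ordProj_mul_ordCompl_eq_self n p).symm
  have hd' : d = p ^ e * (d / p ^ e) := (Nat.ordProj_mul_ordCompl_eq_self d p).symm
  have hpn : ¬ p ∣ n / p ^ e := by rw [← h]; exact Nat.not_dvd_ordCompl hp hn
  have hpd : ¬ p ∣ d / p ^ e := Nat.not_dvd_ordCompl hp hd
  set n₁ := n / p ^ e
  set d₁ := d / p ^ e
  have hp0 : ((p : ℂ)) ^ e ≠ 0 := pow_ne_zero _ (by exact_mod_cast hp.ne_zero)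
  have hn0 : (n₁ : ℂ) ≠ 0 := by
    intro h0
    apply hpn
    have : n₁ = 0 := by exact_mod_cast h0
    rw [this]; exact dvd_zero _
  have hd0 : (d₁ : ℂ) ≠ 0 := by
    intro h0
    apply hpd
    have : d₁ = 0 := by exact_mod_cast h0
    rw [this]; exact dvd_zero _
  have e1 : (n : ℂ) * x / (d : ℂ) = (d₁ : ℂ)⁻¹ * ((n₁ : ℂ) * x) := by
    rw [hn', hd']
    push_cast
    field_simp
  rw [e1]
  constructor
  · intro h1
    have h2 := memLocalIdeal_mul_left (memLocalRing_mul (memLocalRing_natCast_inv hM hpn)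
      (memLocalRing_natCast htop d₁)) h1
    have e2 : (n₁ : ℂ)⁻¹ * (d₁ : ℂ) * ((d₁ : ℂ)⁻¹ * ((n₁ : ℂ) * x)) = x := by
      field_simp
    rwa [e2] at h2
  · intro h1
    exact memLocalIdeal_mul_left (memLocalRing_natCast_inv hM hpd)
      (memLocalIdeal_mul_left (memLocalRing_natCast htop n₁) h1)

theorem not_memLocalIdeal_apply_of_height_zero {p : ℕ} (hM : IsPModular p M)
    {B : Set (IrrCharacter G)} (hB : IsPBlock M B) {y : G} (hy : IsDefectClass M B y)
    {χ : IrrCharacter G} (hχ : χ ∈ B)
    (hh : (charDegree (χ : G → ℂ)).factorization p = minExp p B) :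
    ¬ MemLocalIdeal M ((χ : G → ℂ) y) := by
  have h1 := hy.2.2 χ hχ
  rw [centralChar, ← charDegree_cast_irr, memLocalIdeal_mul_div_iff hM
    Subgroup.index_ne_zero_of_finite (charDegree_pos_irr χ).ne'
    (by rw [factorization_index_of_isDefectClass hM hB hy, hh])] at h1
  exact h1

/-- A character of `A` whose value at a central element is a unit mod `M` has a linear constituent
on every `p`-subgroup. -/
theorem exists_linear_constituent {A : Type u} [Group A] [Fintype A] {p : ℕ}
    (hM : IsPModular p M) {α : A → ℂ} (hα : IsCharacter A α) {y : A}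
    (hy : y ∈ Subgroup.center A) (hαy : ¬ MemLocalIdeal M (α y)) (P : Subgroup A) [Fintype P]
    (hP : IsPGroup p P) :
    ∃ μ : IrrCharacter P, classInner (fun u : P => α u) (μ : P → ℂ) ≠ 0 ∧ (μ : P → ℂ) 1 = 1 := by
  classical
  have hPr := isPrime_of_isPModular hM
  have hp := hM.1
  have : Fact p.Prime := ⟨hp⟩
  have htop := ne_top_of_isPModular hM
  obtain ⟨m, hm, -⟩ := H2.exists_mult hα
  -- some constituent has degree prime to p
  obtain ⟨η, hη⟩ : ∃ η : IrrCharacter A, ¬ MemLocalIdeal M ((m η : ℂ) * (η : A → ℂ) y) := by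
    by_contra hcon
    push Not at hcon
    apply hαy
    rw [hm, Finset.sum_apply]
    exact memLocalIdeal_sum _ _ fun η _ => hcon η
  have hmη : m η ≠ 0 := by
    intro h0
    apply hη
    rw [h0]; simpa using memLocalIdeal_zero htop
  have hη1 : ¬ p ∣ charDegree (η : A → ℂ) := by
    intro hdvd
    apply hη
    have h1 := irr_central_mul η.2 hy 1
    rw [mul_one] at h1
    rw [h1, ← charDegree_cast_irr]
    apply memLocalIdeal_mul_left (memLocalRing_natCast htop _)
    apply memLocalIdeal_mul_left
      (memLocalRing_of_isIntegral htop (isIntegral_centralChar_irr η.2 y))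
    exact (memLocalIdeal_natCast_iff hM _).mpr hdvd
  obtain ⟨k, hk, hk2⟩ := H2.exists_mult (isCharacter_restrict (isCharacter_of_irr η.2) P)
  obtain ⟨μ, hμ⟩ : ∃ μ : IrrCharacter P, ¬ p ∣ k μ * charDegree (μ : P → ℂ) := by
    by_contra hcon
    push Not at hcon
    apply hη1
    have h1 : charDegree (η : A → ℂ) = ∑ μ : IrrCharacter P, k μ * charDegree (μ : P → ℂ) := by
      have h2 := congrFun hk 1
      simp only [Finset.sum_apply, Pi.smul_apply, smul_eq_mul, OneMemClass.coe_one] at h2
      have h3 : ((charDegree (η : A → ℂ) : ℕ) : ℂ) =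
          ((∑ μ : IrrCharacter P, k μ * charDegree (μ : P → ℂ) : ℕ) : ℂ) := by
        push_cast
        rw [charDegree_cast_irr, h2]
        exact Finset.sum_congr rfl fun μ _ => by rw [charDegree_cast_irr]
      exact_mod_cast h3
    rw [h1]
    exact Finset.dvd_sum fun μ _ => hcon μ
  have hkμ : k μ ≠ 0 := by
    intro h0
    apply hμ
    rw [h0, zero_mul]; exact dvd_zero _
  have hμ1 : charDegree (μ : P → ℂ) = 1 := by
    obtain ⟨n, hn⟩ := IsPGroup.iff_card.mp hP
    have h1 := charDegree_dvd_card μ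
    rw [hn] at h1
    obtain ⟨j, -, hj⟩ := (Nat.dvd_prime_pow hp).mp h1
    rcases Nat.eq_zero_or_pos j with h0 | h0
    · rw [hj, h0, pow_zero]
    · exfalso
      apply hμ
      rw [hj]
      exact Dvd.dvd.mul_left (dvd_pow_self p h0.ne') _
  refine ⟨μ, ?_, by rw [← charDegree_cast_irr, hμ1, Nat.cast_one]⟩
  have hnat : ∀ η' : IrrCharacter A, ∃ n : ℕ,
      classInner (fun u : P => (η' : A → ℂ) u) (μ : P → ℂ) = n := fun η' =>
    classInner_char_nat (isCharacter_restrict (isCharacter_of_irr η'.2) P) (isCharacter_of_irr μ.2)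
  choose n hn using hnat
  have h1 : (fun u : P => α u) = ∑ η' : IrrCharacter A, (m η' : ℂ) • fun u : P => (η' : A → ℂ) u := by
    funext u
    rw [hm]
    simp only [Finset.sum_apply, Pi.smul_apply]
  rw [h1, classInner_sum_left]
  simp only [classInner_smul_left, hn]
  have h2 : n η = k μ := by
    have := hk2 μ
    rw [hn η] at this
    exact_mod_cast this
  have h3 : m η * n η ≤ ∑ η' : IrrCharacter A, m η' * n η' :=
    Finset.single_le_sum (f := fun η' => m η' * n η') (fun _ _ => Nat.zero_le _) (Finset.mem_univ η)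
  have h4 : 0 < m η * n η := Nat.mul_pos (Nat.pos_of_ne_zero hmη) (by rw [h2]; exact Nat.pos_of_ne_zero hkμ)
  have h5 : (∑ η' : IrrCharacter A, (m η' : ℂ) * (n η' : ℂ)) =
      ((∑ η' : IrrCharacter A, m η' * n η' : ℕ) : ℂ) := by push_cast; rfl
  rw [h5]
  exact_mod_cast (by omega : (∑ η' : IrrCharacter A, m η' * n η') ≠ 0)

end Cfsg.Agent.H25
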