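import Cfsg.Agent.H25.IndBlock
import Cfsg.Agent.Lib.Helper23.Trunc4

/-!
# Induced blocks and truncated characters (Okuyama, Blau)
-/

set_option autoImplicit false

namespace Cfsg.Agent.H25

open Cfsg Cfsg.Agent.BlockLib Cfsg.Agent.CharLib Cfsg.Agent.Lib.Helper23.Trunc
  Cfsg.Agent.Lib.Helper23.MinMax Cfsg.Agent.Lib.Helper23
open scoped ComplexConjugate

universe u

variable {M : Ideal AlgInt} {G : Type u} [Group G] [Fintype G]
variable {H : Subgroup G} [Fintype H]

/-- If `b^G = B`, the central characters of `b` and `B` are congruent on every integral class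
function of `G` (restricted to `H`). -/
theorem omega_res_congr [M.IsPrime] {b : Set (IrrCharacter H)} {B : Set (IrrCharacter G)}
    (h : IsInducedBlock M H b B) {ψ : IrrCharacter H} (hψ : ψ ∈ b) {χ' : IrrCharacter G}
    (hχ' : χ' ∈ B) {f : G → ℂ} (hf : IsClassFunction G f) (hfR : RVal M f) :
    MemLocalIdeal M (omega (ψ : H → ℂ) (fun x : H => f x) - omega (χ' : G → ℂ) f) := by
  have hf' : IsClassFunction H (fun x : H => f x) := fun x y => hf x y
  have hfR' : RVal M (fun x : H => f x) := fun x => hfR x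
  rw [← redS_eq_iff (memLocalRing_omega ψ.2 hf' hfR') (memLocalRing_omega χ'.2 hf hfR),
    ← lam_epsS h.1 hψ hf' hfR', ← lam_eps h.2.1 hχ' hf hfR,
    ← lam_trunc_of_isInducedBlock h (red_mem_cen hf)]
  rfl

omit [Fintype G] [Fintype H] in
theorem cf_res (p : ℕ) (χ : G → ℂ) : cf p (fun x : H => χ x) = fun x : H => cf p χ x := by
  funext x
  simp only [cf, trunc_apply, Subgroup.orderOf_coe]

theorem conj_classInner_trunc {K : Type u} [Group K] [Fintype K] (p : ℕ) {c : ℂ} (hc : conj c = c)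
    {α β : K → ℂ} (hα : IsCharacter K α) (hβ : IsCharacter K β) :
    conj (classInner (Trunc.trunc p c α) β) = classInner (Trunc.trunc p c α) β := by
  rw [classInner, map_mul, map_inv₀, map_natCast, map_sum]
  congr 1
  refine Fintype.sum_equiv (Equiv.inv K) _ _ fun x => ?_
  rw [Equiv.inv_apply, map_mul, Complex.conj_conj, trunc_apply, trunc_apply, orderOf_inv,
    isCharacter_inv hα, isCharacter_inv hβ, Complex.conj_conj]
  split_ifs
  · simp
  · rw [map_mul, hc]

/-- `[c χ~, ξ] / ξ(1) = (c / |K|) ω_ξ(cf χ)` for real `c` -/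
theorem classInner_trunc_div {K : Type u} [Group K] [Fintype K] (p : ℕ) {c : ℂ} (hc : conj c = c)
    {α : K → ℂ} (hα : IsCharacter K α) (ξ : IrrCharacter K) :
    classInner (Trunc.trunc p c α) (ξ : K → ℂ) / (ξ : K → ℂ) 1 =
      c / (Nat.card K : ℂ) * omega (ξ : K → ℂ) (cf p α) := by
  have h := classInner_trunc_eq_omega p c α ξ
  rw [conj_classInner_trunc p hc hα (isCharacter_of_irr ξ.2), hc] at h
  have h0 : (Nat.card K : ℂ) ≠ 0 := card_ne_zero_complex
  have h1 : (ξ : K → ℂ) 1 ≠ 0 := irr_apply_one_ne_zero ξ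
  field_simp
  linear_combination h

theorem omega_cf_eq_zero {K : Type u} [Group K] [Fintype K] {p : ℕ} (hM : IsPModular p M)
    {B : Set (IrrCharacter K)} (hB : IsPBlock M B) {χ ξ : IrrCharacter K} (hχ : χ ∈ B)
    (hξ : ξ ∉ B) : omega (ξ : K → ℂ) (cf p (χ : K → ℂ)) = 0 := by
  have h := classInner_trunc_eq_omega p 1 (χ : K → ℂ) ξ
  rw [classInner_trunc_eq_zero hM hB 1 hχ hξ, map_zero, mul_zero, map_one, one_mul] at h
  rcases mul_eq_zero.mp h.symm with h1 | h1
  · exact absurd h1 (irr_apply_one_ne_zero ξ)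
  · exact h1

theorem rVal_cf {K : Type u} [Group K] [Fintype K] (hM : M ≠ ⊤) (p : ℕ) (χ : IrrCharacter K) :
    RVal M (cf p (χ : K → ℂ)) := fun g => memLocalRing_cf hM p χ g

/-- part (a) -/
theorem memLocalIdeal_omega_cf_res {p : ℕ} (hM : IsPModular p M) {b : Set (IrrCharacter H)}
    {B : Set (IrrCharacter G)} (h : IsInducedBlock M H b B) {ψ : IrrCharacter H} (hψ : ψ ∈ b)
    {χ : IrrCharacter G} (hχ : χ ∉ B) :
    MemLocalIdeal M (omega (ψ : H → ℂ) (cf p (fun x : H => (χ : G → ℂ) x))) := by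
  have hP := isPrime_of_isPModular hM
  obtain ⟨χ', hχ'⟩ := pb_nonempty h.2.1
  have h1 := omega_res_congr h hψ hχ' (isClassFunction_cf p (isClassFunction_of_irr χ.2))
    (rVal_cf (ne_top_of_isPModular hM) p χ)
  have hB' : IsPBlock M (blockOf M (χ : G → ℂ)) := ⟨χ, rfl⟩
  have h2 : χ' ∉ blockOf M (χ : G → ℂ) := by
    intro hmem
    apply hχ
    have h3 : B = blockOf M (χ : G → ℂ) := by
      by_contra hne
      exact Set.disjoint_left.mp (pb_disjoint_of_ne h.2.1 hB' hne) hχ' hmem
    rw [h3]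
    exact mem_blockOf_self χ
  rw [omega_cf_eq_zero hM hB' (mem_blockOf_self χ) h2, sub_zero] at h1
  rw [cf_res]
  exact h1

/-- part (b) -/
theorem not_memLocalIdeal_omega_cf_res {p : ℕ} (hM : IsPModular p M) {b : Set (IrrCharacter H)}
    {B : Set (IrrCharacter G)} (h : IsInducedBlock M H b B) {ψ : IrrCharacter H} (hψ : ψ ∈ b)
    {χ : IrrCharacter G} (hχ : χ ∈ B)
    (hh : (charDegree (χ : G → ℂ)).factorization p = minExp p B) :
    ¬ MemLocalIdeal M (omega (ψ : H → ℂ) (cf p (fun x : H => (χ : G → ℂ) x))) := by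
  have hP := isPrime_of_isPModular hM
  have h1 := omega_res_congr h hψ hχ (isClassFunction_cf p (isClassFunction_of_irr χ.2))
    (rVal_cf (ne_top_of_isPModular hM) p χ)
  intro hcon
  rw [cf_res] at hcon
  apply not_memLocalIdeal_omega_cf hM h.2.1 hχ hh hχ
  have := memLocalIdeal_sub hcon h1
  simpa using this

omit [Fintype G] in
theorem minExp_eq_of_height_zero {p : ℕ} {B : Set (IrrCharacter G)} {χ : IrrCharacter G}
    (hχ : χ ∈ B) (h0 : blockHeight p B (χ : G → ℂ) = 0) :
    (charDegree (χ : G → ℂ)).factorization p = minExp p B := by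
  have h1 := minExp_le (p := p) hχ
  have h2 : (charDegree (χ : G → ℂ)).factorization p - minExp p B = 0 := h0
  omega

omit [Fintype G] in
theorem height_zero_of_minExp_eq {p : ℕ} {B : Set (IrrCharacter G)} {χ : IrrCharacter G}
    (h : (charDegree (χ : G → ℂ)).factorization p = minExp p B) :
    blockHeight p B (χ : G → ℂ) = 0 := by
  show (charDegree (χ : G → ℂ)).factorization p - minExp p B = 0
  omega

/-- the unit `p^a / |K|` -/
theorem unit_aux {K : Type u} [Group K] [Fintype K] {p : ℕ} (hM : IsPModular p M) {x : ℂ} :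
    MemLocalIdeal M (((p ^ (Nat.card K).factorization p : ℕ) : ℂ) / (Nat.card K : ℂ) * x) ↔
      MemLocalIdeal M x := by
  have hP := isPrime_of_isPModular hM
  have hp := hM.1
  set a := (Nat.card K).factorization p with ha
  set m := Nat.card K / p ^ a with hm
  have hGm : Nat.card K = p ^ a * m := (Nat.ordProj_mul_ordCompl_eq_self (Nat.card K) p).symm
  have hpm : ¬ p ∣ m := Nat.not_dvd_ordCompl hp Nat.card_pos.ne'
  have hp0 : ((p ^ a : ℕ) : ℂ) ≠ 0 := by exact_mod_cast (pow_pos hp.pos a).ne'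
  have hm0 : (m : ℂ) ≠ 0 := by
    intro h0
    apply hpm
    have : m = 0 := by exact_mod_cast h0
    rw [this]; exact dvd_zero _
  have e1 : ((p ^ a : ℕ) : ℂ) / (Nat.card K : ℂ) = (m : ℂ)⁻¹ := by
    rw [hGm]
    push_cast at hp0 ⊢
    field_simp
  rw [e1]
  constructor
  · intro h
    have := memLocalIdeal_mul_left (memLocalRing_natCast (ne_top_of_isPModular hM) m) h
    rwa [← mul_assoc, mul_inv_cancel₀ hm0, one_mul] at this
  · intro h
    exact memLocalIdeal_mul_left (memLocalRing_natCast_inv hM hpm) h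

end Cfsg.Agent.H25
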