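import Cfsg.Agent.H25.IndBlock2

/-!
# Truncated characters of positive height
-/

set_option autoImplicit false

namespace Cfsg.Agent.H25

open Cfsg Cfsg.Agent.BlockLib Cfsg.Agent.CharLib Cfsg.Agent.Lib.Helper23.Trunc
  Cfsg.Agent.Lib.Helper23.MinMax Cfsg.Agent.Lib.Helper23
open scoped ComplexConjugate

universe u

variable {M : Ideal AlgInt} {K : Type u} [Group K] [Fintype K]

theorem memLocalIdeal_omega_cf_of_height_pos {p : ℕ} (hM : IsPModular p M)
    {ξ ψ : IrrCharacter K}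
    (hlt : (charDegree (ψ : K → ℂ)).factorization p < (charDegree (ξ : K → ℂ)).factorization p) :
    MemLocalIdeal M (omega (ψ : K → ℂ) (cf p (ξ : K → ℂ))) := by
  have hP := isPrime_of_isPModular hM
  have hp := hM.1
  have htop := ne_top_of_isPModular hM
  set a := (Nat.card K).factorization p with ha
  set f := (charDegree (ξ : K → ℂ)).factorization p with hf
  set e := (charDegree (ψ : K → ℂ)).factorization p with he
  have hfa : f ≤ a := (Nat.factorization_le_iff_dvd (charDegree_pos_irr ξ).ne' Nat.card_pos.ne').2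
    (charDegree_dvd_card ξ) p
  obtain ⟨z, hz⟩ := exists_int_classInner_trunc hp ξ ψ (a - f) (by omega)
  have h1 := card_mul_int_eq ξ ψ (a - f) hz
  set m := Nat.card K / p ^ a with hm
  have hGm : Nat.card K = p ^ a * m := (Nat.ordProj_mul_ordCompl_eq_self (Nat.card K) p).symm
  set w := charDegree (ψ : K → ℂ) / p ^ e with hw
  have hψw : charDegree (ψ : K → ℂ) = p ^ e * w :=
    (Nat.ordProj_mul_ordCompl_eq_self (charDegree (ψ : K → ℂ)) p).symm
  have hpw : ¬ p ∣ w := Nat.not_dvd_ordCompl hp (charDegree_pos_irr ψ).ne'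
  have hp0 : (p : ℂ) ≠ 0 := by exact_mod_cast hp.ne_zero
  have hw0 : (w : ℂ) ≠ 0 := by
    intro h0
    apply hpw
    have : w = 0 := by exact_mod_cast h0
    rw [this]; exact dvd_zero _
  rw [hGm, hψw] at h1
  push_cast at h1
  obtain ⟨d, hd⟩ : ∃ d, f = e + 1 + d := ⟨f - e - 1, by omega⟩
  have e1 : (p : ℂ) ^ a = (p : ℂ) ^ (a - f) * (p : ℂ) ^ e * ((p : ℂ) * (p : ℂ) ^ d) := by
    rw [← pow_succ', ← pow_add, ← pow_add]
    congr 1
    omega
  have e2 : omega (ψ : K → ℂ) (cf p (ξ : K → ℂ)) =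
      (w : ℂ)⁻¹ * ((p : ℂ) * ((p : ℂ) ^ d * (m : ℂ) * (z : ℂ))) := by
    have hq : (p : ℂ) ^ (a - f) * (p : ℂ) ^ e ≠ 0 := mul_ne_zero (pow_ne_zero _ hp0) (pow_ne_zero _ hp0)
    have h2 : (p : ℂ) ^ (a - f) * (p : ℂ) ^ e * ((w : ℂ) * omega (ψ : K → ℂ) (cf p (ξ : K → ℂ))) =
        (p : ℂ) ^ (a - f) * (p : ℂ) ^ e * ((p : ℂ) * ((p : ℂ) ^ d * (m : ℂ) * (z : ℂ))) := by
      rw [e1] at h1
      linear_combination -h1
    have h3 := mul_left_cancel₀ hq h2
    rw [← h3, ← mul_assoc, inv_mul_cancel₀ hw0, one_mul]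
  rw [e2]
  apply memLocalIdeal_mul_left (memLocalRing_natCast_inv hM hpw)
  apply memLocalIdeal_mul_right ((memLocalIdeal_natCast_iff hM p).mpr dvd_rfl)
  have h4 : (p : ℂ) ^ d * (m : ℂ) * (z : ℂ) = ((p ^ d * m * z : ℤ) : ℂ) := by push_cast; ring
  rw [h4]
  exact memLocalRing_of_isIntegral htop (isIntegral_algebraMap (R := ℤ) (A := ℂ) (x := _))

omit [Fintype K] in
theorem cf_sum_smul (p : ℕ) {ι : Type*} (s : Finset ι) (m : ι → ℕ) (F : ι → K → ℂ) :
    cf p (∑ i ∈ s, (m i : ℂ) • F i) = ∑ i ∈ s, (m i : ℂ) • cf p (F i) := by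
  funext g
  simp only [cf, trunc_apply, Finset.sum_apply, Pi.smul_apply, smul_eq_mul]
  split_ifs
  · simp
  · simp only [one_mul, map_sum, map_mul, map_natCast]

end Cfsg.Agent.H25
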