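import Cfsg.Agent.H25.QuotDefect
import Cfsg.Agent.Lib.Helper23.WeakOrth

/-!
# Block idempotent coefficients and quotient groups
-/

set_option autoImplicit false

namespace Cfsg.Agent.H25.QuotDefect

open Cfsg Cfsg.Agent.CharLib Cfsg.Agent.BlockLib Cfsg.Agent.BlockLib.CA Cfsg.Agent.Lib.Helper23
open scoped ComplexConjugate

universe u

variable {G : Type u} [Group G] [Fintype G]

/-- inflation of irreducible characters -/
noncomputable def infl (N : Subgroup G) [N.Normal] (χ : IrrCharacter (G ⧸ N)) : IrrCharacter G :=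
  ⟨(χ : G ⧸ N → ℂ) ∘ QuotientGroup.mk,
    isIrrCharacter_comp_of_surjective χ.2 (QuotientGroup.mk' N) (QuotientGroup.mk'_surjective N)⟩

omit [Fintype G] in
theorem infl_apply (N : Subgroup G) [N.Normal] (χ : IrrCharacter (G ⧸ N)) (g : G) :
    (infl N χ : G → ℂ) g = (χ : G ⧸ N → ℂ) (g : G ⧸ N) := rfl

omit [Fintype G] in
theorem infl_injective (N : Subgroup G) [N.Normal] : Function.Injective (infl N) := by
  intro χ ψ h
  apply Subtype.ext
  funext q
  obtain ⟨g, rfl⟩ := QuotientGroup.mk_surjective q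
  exact congrFun (congrArg Subtype.val h) g

open Classical in
/-- sum of an irreducible character over a coset of a normal subgroup -/
theorem sum_coset (N : Subgroup G) [N.Normal] (χ : IrrCharacter G) (x : G) :
    ∑ n : G, (if n ∈ N then (χ : G → ℂ) (x * n) else 0) =
      if (∀ n ∈ N, (χ : G → ℂ) n = (χ : G → ℂ) 1) then (Nat.card N : ℂ) * (χ : G → ℂ) x else 0 := by
  split_ifs with h
  · have e : ∀ n : G, (if n ∈ N then (χ : G → ℂ) (x * n) else 0) =
        (if n ∈ N then (1 : ℂ) else 0) * (χ : G → ℂ) x := by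
      intro n
      split_ifs with hn
      · rw [H25.irr_mul_of_mem_ker χ (h n hn) x, one_mul]
      · rw [zero_mul]
    rw [Finset.sum_congr rfl (fun n _ => e n), ← Finset.sum_mul, Finset.sum_boole]
    have hc' : (Finset.univ.filter (fun n => n ∈ N)).card = Nat.card N := by
      rw [Nat.card_eq_fintype_card, Fintype.card_subtype]
    rw [hc']
  · push Not at h
    exact H25.sum_coset_eq_zero N χ h x

open Classical in
/-- the image of the block idempotent in the group algebra of the quotient -/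
theorem blockCoeff_quotient (N : Subgroup G) [N.Normal] (B : Set (IrrCharacter G)) (x : G) :
    blockCoeff {χ : IrrCharacter (G ⧸ N) | infl N χ ∈ B} (x : G ⧸ N) =
      ∑ n : G, (if n ∈ N then blockCoeff B (x * n) else 0) := by
  have : Fintype (G ⧸ N) := Fintype.ofFinite _
  unfold blockCoeff
  rw [finsum_mem_eq_sum_filter']
  simp only [finsum_mem_eq_sum_filter']
  have e1 : ∀ n : G, (if n ∈ N then (Nat.card G : ℂ)⁻¹ * ∑ χ ∈ Finset.univ.filter (· ∈ B),
      (χ : G → ℂ) 1 * conj ((χ : G → ℂ) (x * n)) else 0) =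
      (Nat.card G : ℂ)⁻¹ * ∑ χ ∈ Finset.univ.filter (· ∈ B),
      (χ : G → ℂ) 1 * conj (if n ∈ N then (χ : G → ℂ) (x * n) else 0) := by
    intro n
    split_ifs <;> simp
  rw [Finset.sum_congr rfl (fun n _ => e1 n), ← Finset.mul_sum, Finset.sum_comm]
  have e2 : ∀ χ : IrrCharacter G, ∑ n : G, (χ : G → ℂ) 1 *
      conj (if n ∈ N then (χ : G → ℂ) (x * n) else 0) =
      if (∀ n ∈ N, (χ : G → ℂ) n = (χ : G → ℂ) 1) then
        (Nat.card N : ℂ) * ((χ : G → ℂ) 1 * conj ((χ : G → ℂ) x)) else 0 := by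
    intro χ
    rw [← Finset.mul_sum, ← map_sum, sum_coset]
    split_ifs
    · rw [map_mul, Complex.conj_natCast]; ring
    · simp
  rw [Finset.sum_congr rfl (fun χ _ => e2 χ), ← Finset.sum_filter, Finset.filter_filter,
    ← Finset.mul_sum]
  have himg : Finset.univ.filter (fun χ : IrrCharacter G => χ ∈ B ∧
      ∀ n ∈ N, (χ : G → ℂ) n = (χ : G → ℂ) 1) =
      (Finset.univ.filter (fun χ : IrrCharacter (G ⧸ N) => χ ∈ {χ | infl N χ ∈ B})).image
        (infl N) := by
    ext χ
    simp only [Finset.mem_filter, Finset.mem_univ, true_and, Finset.mem_image, Set.mem_setOf_eq]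
    constructor
    · rintro ⟨hB, hk⟩
      obtain ⟨χ', hχ'⟩ := H25.exists_quotient_irr χ N (fun n hn => hk n hn)
      have : infl N χ' = χ := Subtype.ext (funext fun g => hχ' g)
      exact ⟨χ', by rw [this]; exact hB, this⟩
    · rintro ⟨χ', hB, rfl⟩
      refine ⟨hB, fun n hn => ?_⟩
      rw [infl_apply, infl_apply, (QuotientGroup.eq_one_iff n).2 hn, QuotientGroup.mk_one]
  rw [himg, Finset.sum_image (fun a _ b _ h => infl_injective N h)]
  have hcard : (Nat.card (G ⧸ N) : ℂ)⁻¹ = (Nat.card G : ℂ)⁻¹ * (Nat.card N : ℂ) := by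
    have h1 : (Nat.card G : ℂ) = (Nat.card N : ℂ) * (Nat.card (G ⧸ N) : ℂ) := by
      rw [← Nat.cast_mul, ← Subgroup.index_eq_card, N.card_mul_index]
    have h2 : (Nat.card N : ℂ) ≠ 0 := by exact_mod_cast Nat.card_pos.ne'
    have h3 : (Nat.card (G ⧸ N) : ℂ) ≠ 0 := by exact_mod_cast Nat.card_pos.ne'
    rw [h1]
    field_simp
  rw [hcard, mul_assoc]
  rfl

open Classical in
/-- a union of blocks whose idempotent coefficient does not vanish contains a block with the same
property -/
theorem exists_block_of_blockCoeff {M : Ideal AlgInt} [M.IsPrime] (S : Set (IrrCharacter G))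
    (hS : ∀ χ ∈ S, blockOf M (χ : G → ℂ) ⊆ S) (q : G)
    (h : ¬ MemLocalIdeal M (blockCoeff S q)) :
    ∃ χ₀ ∈ S, ¬ MemLocalIdeal M (blockCoeff (blockOf M (χ₀ : G → ℂ)) q) := by
  by_contra hno
  push Not at hno
  apply h
  unfold blockCoeff
  rw [finsum_mem_eq_sum_filter']
  rw [← Finset.sum_fiberwise_of_maps_to (s := Finset.univ.filter (· ∈ S))
    (t := (Finset.univ.filter (· ∈ S)).image (fun χ : IrrCharacter G => blockOf M (χ : G → ℂ)))
    (g := fun χ : IrrCharacter G => blockOf M (χ : G → ℂ))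
    (fun χ hχ => Finset.mem_image_of_mem _ hχ), Finset.mul_sum]
  apply memLocalIdeal_sum
  intro b hb
  obtain ⟨χ₀, hχ₀, rfl⟩ := Finset.mem_image.1 hb
  have hχ₀S : χ₀ ∈ S := (Finset.mem_filter.1 hχ₀).2
  have h1 := hno χ₀ hχ₀S
  unfold blockCoeff at h1
  rw [finsum_mem_eq_sum_filter'] at h1
  have e : (Finset.univ.filter (· ∈ S)).filter
      (fun χ : IrrCharacter G => blockOf M (χ : G → ℂ) = blockOf M (χ₀ : G → ℂ)) =
      Finset.univ.filter (· ∈ blockOf M (χ₀ : G → ℂ)) := by
    ext χ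
    simp only [Finset.mem_filter, Finset.mem_univ, true_and]
    constructor
    · rintro ⟨-, h2⟩
      rw [← h2]
      exact mem_blockOf_self χ
    · intro h2
      exact ⟨hS χ₀ hχ₀S h2, blockOf_eq_of_mem h2⟩
  rw [e]
  exact h1

end Cfsg.Agent.H25.QuotDefect
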