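import Cfsg.Agent.H25.Zeros
import Cfsg.Agent.H25.Codeg2
import Cfsg.Agent.H25.QuotDefect2
import Cfsg.Agent.CharLib.PSection
import Cfsg.Agent.CharLib.L.Ito
import Cfsg.Agent.Lib.Helper23.DefectZero
import Cfsg.Agent.BlockLib.KG.EquivTr

/-!
# Class numbers of `X = V G` with `V` an abelian normal Sylow subgroup
-/

set_option autoImplicit false

namespace Cfsg.Agent.H25.KGV

open Cfsg Cfsg.Agent.CharLib Cfsg.Agent.BlockLib
open scoped ComplexConjugate Pointwise

universe u

variable {X : Type u} [Group X] [Finite X]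

/-- characters of degree prime to `p` do not vanish on `p`-elements -/
theorem irr_ne_zero_of_pElement {p : ℕ} (hp : p.Prime) (χ : IrrCharacter X)
    (hdeg : ¬ p ∣ charDegree (χ : X → ℂ)) {v : X} {k : ℕ} (hv : v ^ p ^ k = 1) :
    (χ : X → ℂ) v ≠ 0 := by
  obtain ⟨M, hM⟩ := Cfsg.Agent.Lib.Helper23.exists_isPModular p hp
  intro h0
  have h1 := Cfsg.Agent.CharLib.H2.memLocalIdeal_char_mul_sub hM (isCharacter_of_irr χ.2)
    (Commute.one_right v) hv
  rw [mul_one, h0, zero_sub, charDegree_irr] at h1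
  have h2 : MemLocalIdeal M ((charDegree (χ : X → ℂ) : ℕ) : ℂ) := by
    simpa using memLocalIdeal_neg h1
  exact hdeg ((memLocalIdeal_natCast_iff hM _).1 h2)

/-- Ito's theorem -/
theorem charDegree_dvd_index_of_normal_comm (χ : IrrCharacter X) (A : Subgroup X) [A.Normal]
    (hA : ∀ a ∈ A, ∀ b ∈ A, a * b = b * a) : charDegree (χ : X → ℂ) ∣ A.index := by
  obtain ⟨n, ρ, hirr, hχ⟩ := χ.2
  have h1 := Cfsg.Agent.CharLib.L.finrank_dvd_index_of_normal_comm ρ A hA
  have h2 : charDegree (χ : X → ℂ) = Module.finrank ℂ (Fin n → ℂ) := by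
    have h3 : ((charDegree (χ : X → ℂ) : ℕ) : ℂ) = ((Module.finrank ℂ (Fin n → ℂ) : ℕ) : ℂ) := by
      rw [← charDegree_irr, ← hχ, Representation.char_one]
    exact_mod_cast h3
  rw [h2]
  exact h1

theorem card_units_le_sum_normSq_irr (χ : IrrCharacter X) (g : X) (hne : (χ : X → ℂ) g ≠ 0) :
    (Fintype.card (ZMod (Nat.card X))ˣ : ℝ) ≤
      ∑ u : (ZMod (Nat.card X))ˣ, Complex.normSq ((χ : X → ℂ) (g ^ (u : ZMod (Nat.card X)).val)) := by
  obtain ⟨n, ρ, hirr, hχ⟩ := χ.2
  rw [← hχ] at hne ⊢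
  exact card_units_le_sum_normSq' ρ g hne

theorem sum_normSq_irr (g : X) :
    ∑ χ : IrrCharacter X, Complex.normSq ((χ : X → ℂ) g) =
      (Nat.card (Subgroup.centralizer ({g} : Set X)) : ℝ) := by
  cases nonempty_fintype X
  have h := sum_irr_mul_conj_self g
  simp only [Complex.mul_conj] at h
  exact_mod_cast h

theorem centralizer_pow_eq {m : ℕ} (hm : m.Coprime (Nat.card X)) (g : X) :
    Subgroup.centralizer ({g ^ m} : Set X) = Subgroup.centralizer ({g} : Set X) := by
  ext x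
  have h1 := pow_mem_iff_of_coprime (Subgroup.centralizer ({x} : Set X)) hm g
  rw [Subgroup.mem_centralizer_singleton_iff, Subgroup.mem_centralizer_singleton_iff] at h1
  rw [Subgroup.mem_centralizer_singleton_iff, Subgroup.mem_centralizer_singleton_iff]
  exact ⟨fun h => (h1.1 h.symm).symm, fun h => (h1.2 h.symm).symm⟩

open Classical in
/-- the number of irreducible characters with `V` in the kernel -/
theorem card_filter_le_kerSub (V : Subgroup X) [V.Normal] :
    (Finset.univ.filter (fun χ : IrrCharacter X => V ≤ kerSub χ)).card =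
      Nat.card (ConjClasses (X ⧸ V)) := by
  rw [← card_irrCharacter, Nat.card_eq_fintype_card, ← Finset.card_univ]
  symm
  apply Finset.card_bij (fun χ _ => Cfsg.Agent.H25.QuotDefect.infl V χ)
  · intro χ _
    rw [Finset.mem_filter]
    refine ⟨Finset.mem_univ _, fun a ha => ?_⟩
    rw [mem_kerSub, Cfsg.Agent.H25.QuotDefect.infl_apply, Cfsg.Agent.H25.QuotDefect.infl_apply,
      (QuotientGroup.eq_one_iff a).2 ha]
    rfl
  · intro χ _ ψ _ h
    exact Cfsg.Agent.H25.QuotDefect.infl_injective V h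
  · intro χ hχ
    obtain ⟨χ', hχ'⟩ := exists_quotient_irr χ V (Finset.mem_filter.1 hχ).2
    exact ⟨χ', Finset.mem_univ _, Subtype.ext (funext fun g => hχ' g)⟩

theorem card_conjClasses_congr {A B : Type u} [Group A] [Group B] [Finite A] [Finite B]
    (e : A ≃* B) : Nat.card (ConjClasses A) = Nat.card (ConjClasses B) := by
  rw [← card_irrCharacter, ← card_irrCharacter]
  exact Nat.card_congr ⟨mapIrr e, mapIrr e.symm, mapIrr_symm_mapIrr e, mapIrr_mapIrr_symm e⟩

theorem card_eq_of_isComplement' {V G : Subgroup X} (hGV : Subgroup.IsComplement' V G)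
    (C : Subgroup X) (hVC : V ≤ C) :
    Nat.card C = Nat.card (G ⊓ C : Subgroup X) * Nat.card V := by
  have h1 : Subgroup.IsComplement' (V.subgroupOf C) (G.subgroupOf C) := by
    apply Subgroup.isComplement'_of_disjoint_and_mul_eq_univ
    · rw [Subgroup.disjoint_def]
      intro x hx hx'
      apply Subtype.ext
      exact Subgroup.disjoint_def.1 hGV.disjoint (Subgroup.mem_subgroupOf.1 hx)
        (Subgroup.mem_subgroupOf.1 hx')
    · apply Set.eq_univ_of_forall
      intro c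
      have h2 : (c : X) ∈ (V : Set X) * (G : Set X) := by
        rw [Subgroup.IsComplement.mul_eq hGV]; trivial
      obtain ⟨a, ha, g, hg, hag⟩ := Set.mem_mul.1 h2
      have hgC : g ∈ C := by
        have : g = a⁻¹ * c := by rw [← hag]; group
        rw [this]
        exact C.mul_mem (C.inv_mem (hVC ha)) c.2
      exact Set.mem_mul.2 ⟨⟨a, hVC ha⟩, Subgroup.mem_subgroupOf.2 ha, ⟨g, hgC⟩,
        Subgroup.mem_subgroupOf.2 hg, Subtype.ext hag⟩
  rw [← h1.card_mul_card, mul_comm]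
  congr 1
  · rw [← Subgroup.inf_subgroupOf_right]
    exact Nat.card_congr (Subgroup.subgroupOfEquivOfLe inf_le_right).toEquiv
  · exact Nat.card_congr (Subgroup.subgroupOfEquivOfLe hVC).toEquiv

theorem card_add_le {p : ℕ} (hp : p.Prime) (V : Subgroup X) [V.Normal] (hVp : IsPGroup p V)
    (hidx : ¬ p ∣ V.index) (hab : ∀ a ∈ V, ∀ b ∈ V, a * b = b * a) (v : X) (hv : v ∈ V) :
    Nat.card (ConjClasses X) + V.index ≤
      Nat.card (Subgroup.centralizer ({v} : Set X)) + Nat.card (ConjClasses (X ⧸ V)) := by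
  classical
  have hn : NeZero (Nat.card X) := ⟨Nat.card_pos.ne'⟩
  obtain ⟨k, hk⟩ := hVp ⟨v, hv⟩
  have hvk : v ^ p ^ k = 1 := by simpa using congrArg Subtype.val hk
  have hne : ∀ χ : IrrCharacter X, (χ : X → ℂ) v ≠ 0 := fun χ =>
    irr_ne_zero_of_pElement hp χ
      (fun h => hidx (h.trans (charDegree_dvd_index_of_normal_comm χ V hab))) hvk
  obtain ⟨A, hA⟩ : ∃ A : Finset (IrrCharacter X),
    A = Finset.univ.filter (fun χ : IrrCharacter X => V ≤ kerSub χ) := ⟨_, rfl⟩
  have hsumA : ∀ u : (ZMod (Nat.card X))ˣ, ∑ χ ∈ A,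
      Complex.normSq ((χ : X → ℂ) (v ^ (u : ZMod (Nat.card X)).val)) = (V.index : ℝ) := by
    intro u
    have h1 := sum_sq_of_le_ker V
    rw [← h1, hA, Finset.sum_filter]
    push_cast
    refine Finset.sum_congr rfl fun χ _ => ?_
    split_ifs with h
    · have h2 : (χ : X → ℂ) (v ^ (u : ZMod (Nat.card X)).val) = (χ : X → ℂ) 1 :=
        h (V.pow_mem hv _)
      rw [h2, charDegree_irr, Complex.normSq_natCast]
      ring
    · rfl
  have hsumAll : ∀ u : (ZMod (Nat.card X))ˣ, ∑ χ : IrrCharacter X,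
      Complex.normSq ((χ : X → ℂ) (v ^ (u : ZMod (Nat.card X)).val)) =
        (Nat.card (Subgroup.centralizer ({v} : Set X)) : ℝ) := by
    intro u
    rw [sum_normSq_irr, centralizer_pow_eq (ZMod.val_coe_unit_coprime u)]
  have hsumAc : ∀ u : (ZMod (Nat.card X))ˣ, ∑ χ ∈ Aᶜ,
      Complex.normSq ((χ : X → ℂ) (v ^ (u : ZMod (Nat.card X)).val)) =
        (Nat.card (Subgroup.centralizer ({v} : Set X)) : ℝ) - (V.index : ℝ) := by
    intro u
    rw [← hsumAll u, ← hsumA u, ← Finset.sum_add_sum_compl A]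
    ring
  have hmain : (Aᶜ.card : ℝ) * (Fintype.card (ZMod (Nat.card X))ˣ : ℝ) ≤
      (Fintype.card (ZMod (Nat.card X))ˣ : ℝ) *
        ((Nat.card (Subgroup.centralizer ({v} : Set X)) : ℝ) - (V.index : ℝ)) := by
    calc (Aᶜ.card : ℝ) * (Fintype.card (ZMod (Nat.card X))ˣ : ℝ)
        = ∑ χ ∈ Aᶜ, (Fintype.card (ZMod (Nat.card X))ˣ : ℝ) := by simp
      _ ≤ ∑ χ ∈ Aᶜ, ∑ u : (ZMod (Nat.card X))ˣ,
            Complex.normSq ((χ : X → ℂ) (v ^ (u : ZMod (Nat.card X)).val)) :=
          Finset.sum_le_sum fun χ _ => card_units_le_sum_normSq_irr χ v (hne χ)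
      _ = ∑ u : (ZMod (Nat.card X))ˣ, ∑ χ ∈ Aᶜ,
            Complex.normSq ((χ : X → ℂ) (v ^ (u : ZMod (Nat.card X)).val)) := Finset.sum_comm
      _ = ∑ u : (ZMod (Nat.card X))ˣ,
            ((Nat.card (Subgroup.centralizer ({v} : Set X)) : ℝ) - (V.index : ℝ)) :=
          Finset.sum_congr rfl fun u _ => hsumAc u
      _ = _ := by rw [Finset.sum_const, Finset.card_univ, nsmul_eq_mul]
  have hφ : (0 : ℝ) < (Fintype.card (ZMod (Nat.card X))ˣ : ℝ) := by
    exact_mod_cast Fintype.card_pos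
  have h2 : (Aᶜ.card : ℝ) ≤
      (Nat.card (Subgroup.centralizer ({v} : Set X)) : ℝ) - (V.index : ℝ) := by
    rw [mul_comm] at hmain
    exact le_of_mul_le_mul_left hmain hφ
  have h3 : Nat.card (ConjClasses X) = A.card + Aᶜ.card := by
    rw [← card_irrCharacter, Nat.card_eq_fintype_card, Finset.card_add_card_compl]
  have h4 : A.card = Nat.card (ConjClasses (X ⧸ V)) := by
    rw [hA, ← card_filter_le_kerSub V]
  rw [h3, ← h4]
  have h5 : ((A.card + Aᶜ.card + V.index : ℕ) : ℝ) ≤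
      ((Nat.card (Subgroup.centralizer ({v} : Set X)) + A.card : ℕ) : ℝ) := by
    push_cast; linarith
  exact_mod_cast h5

end Cfsg.Agent.H25.KGV
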