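import Cfsg.Agent.Lib.Helper23.MinMax2

set_option autoImplicit false
open Cfsg

namespace Cfsg.Agent.H25.Osima

open Cfsg Cfsg.Agent.CharLib Cfsg.Agent.BlockLib Cfsg.Agent.Lib.Helper23.MinMax

/-- Two irreducible characters whose central characters agree (modulo the local ideal) on the
`p`-regular classes lie in the same block. -/
theorem sameBlock_of_regular {G : Type*} [Group G] [Finite G] {p : ℕ} [Fact p.Prime]
    {M : Ideal Cfsg.AlgInt} (hM : Cfsg.IsPModular p M) (χ ψ : Cfsg.IrrCharacter G)
    (h : ∀ x : G, ¬ p ∣ orderOf x →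
      Cfsg.MemLocalIdeal M (Cfsg.centralChar (χ : G → ℂ) x - Cfsg.centralChar (ψ : G → ℂ) x)) :
    Cfsg.SameBlock M (χ : G → ℂ) (ψ : G → ℂ) := by
  classical
  have hMp := isPrime_of_isPModular hM
  have htop := ne_top_of_isPModular hM
  cases nonempty_fintype G
  have : Fintype (ConjClasses G) := Fintype.ofFinite _
  set B := Cfsg.blockOf M (χ : G → ℂ) with hB
  have hBb : IsPBlock M B := ⟨χ, rfl⟩
  have hχB : χ ∈ B := SameBlock.refl' htop _
  have h1 := sum_classes_blockCoeff B χ
  have h2 := sum_classes_blockCoeff B ψ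
  rw [if_pos hχB] at h1
  by_contra hcon
  have hψB : ψ ∉ B := hcon
  rw [if_neg hψB] at h2
  apply not_memLocalIdeal_one (M := M)
  have h3 : (1 : ℂ) = ∑ C : ConjClasses G, blockCoeff B (Quotient.out C) *
      (centralChar (χ : G → ℂ) (Quotient.out C) - centralChar (ψ : G → ℂ) (Quotient.out C)) := by
    simp only [mul_sub]
    rw [Finset.sum_sub_distrib, h1, h2, sub_zero]
  rw [h3]
  apply memLocalIdeal_sum
  intro C _
  by_cases hreg : p ∣ orderOf (Quotient.out C)
  · rw [blockCoeff_eq_zero_of_singular hM hBb hreg, zero_mul]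
    exact memLocalIdeal_zero htop
  · exact memLocalIdeal_mul_left (memLocalRing_blockCoeff hBb _) (h _ hreg)

end Cfsg.Agent.H25.Osima
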