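import Cfsg.Agent.H25.Osima
import Cfsg.Agent.H25.BlockSum2
import Cfsg.Agent.H25.Codeg2
import Cfsg.Agent.H25.NormalSum
import Cfsg.Agent.H6.ClassSumOmega
import Cfsg.Agent.H6.ClassSumNil
import Cfsg.Agent.BlockLib.KG.GrpAux

set_option autoImplicit false
open Cfsg

namespace Cfsg.Agent.H25.QuotBlock

open Cfsg Cfsg.Agent.CharLib Cfsg.Agent.BlockLib Cfsg.Agent.Lib.Helper23.MinMax Cfsg.Agent.H6
open scoped ComplexConjugate

variable {G : Type*} [Group G] [Finite G] {p : ℕ} [Fact p.Prime] {M : Ideal Cfsg.AlgInt}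

/-- central characters vanish (mod the local ideal) off the centralizer of a normal `p`-subgroup -/
theorem memLocalIdeal_centralChar_of_not_mem (hM : Cfsg.IsPModular p M) (Q : Subgroup G)
    [hQn : Q.Normal] (hQp : IsPGroup p Q) {g : G} (hg : g ∉ Subgroup.centralizer (Q : Set G))
    (χ : Cfsg.IrrCharacter G) : MemLocalIdeal M (centralChar (χ : G → ℂ) g) := by
  classical
  cases nonempty_fintype G
  apply memLocalIdeal_centralChar_of_nilpotent hM g _ χ.2
  apply classSum_nilpotent p (ZMod p) Q hQn hQp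
  · intro y x hx
    rw [Finset.mem_filter] at hx ⊢
    exact ⟨Finset.mem_univ _, hx.2.trans (isConj_iff.mpr ⟨y, rfl⟩)⟩
  · intro x hx hxC
    rw [Finset.mem_filter] at hx
    obtain ⟨c, hc⟩ := isConj_iff.mp hx.2
    apply hg
    rw [Subgroup.mem_centralizer_iff] at hxC ⊢
    intro u hu
    have h1 := hxC (c * u * c⁻¹) (hQn.conj_mem u hu c)
    rw [← hc] at h1
    have h2 : c * (u * g) * c⁻¹ = c * (g * u) * c⁻¹ := by
      calc c * (u * g) * c⁻¹ = c * u * c⁻¹ * (c * g * c⁻¹) := by group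
        _ = c * g * c⁻¹ * (c * u * c⁻¹) := h1
        _ = c * (g * u) * c⁻¹ := by group
    exact mul_left_cancel (mul_right_cancel h2)

/-- every block contains a character with a given normal `p`-subgroup in its kernel -/
theorem exists_inflation_mem (hM : Cfsg.IsPModular p M) (Q : Subgroup G) [hQn : Q.Normal]
    (hQp : IsPGroup p Q) (B : Set (Cfsg.IrrCharacter G)) (hB : Cfsg.IsPBlock M B) :
    ∃ χ : Cfsg.IrrCharacter (G ⧸ Q), ∃ θ ∈ B,
      (θ : G → ℂ) = (χ : G ⧸ Q → ℂ) ∘ QuotientGroup.mk := by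
  classical
  cases nonempty_fintype G
  have htop := ne_top_of_isPModular hM
  by_contra hcon
  push Not at hcon
  have hnk : ∀ θ ∈ B, ∃ x ∈ Q, (θ : G → ℂ) x ≠ (θ : G → ℂ) 1 := by
    intro θ hθ
    by_contra hc
    push Not at hc
    obtain ⟨χ', hχ'⟩ := H25.exists_quotient_irr θ Q (fun x hx => hc x hx)
    exact hcon χ' θ hθ (funext fun g => (hχ' g).symm)
  have hfin : (B : Set (Cfsg.IrrCharacter G)).Finite := Set.toFinite _
  -- sum of the block coefficients over Q
  have h1 : ∑ x : G, (if x ∈ Q then blockCoeff B x else 0) = blockCoeff B 1 := by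
    rw [Finset.sum_eq_single 1]
    · rw [if_pos Q.one_mem]
    · intro x _ hx1
      split_ifs with hxQ
      · apply blockCoeff_eq_zero_of_singular hM hB
        obtain ⟨k, hk⟩ := (IsPGroup.iff_orderOf.mp hQp) ⟨x, hxQ⟩
        rw [Subgroup.orderOf_mk] at hk
        rw [hk]
        rcases k with _ | k
        · rw [pow_zero, orderOf_eq_one_iff] at hk
          exact absurd hk hx1
        · exact dvd_pow_self p (Nat.succ_ne_zero k)
      · rfl
    · intro h; exact absurd (Finset.mem_univ _) h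
  have h2 : ∑ x : G, (if x ∈ Q then blockCoeff B x else 0) = 0 := by
    unfold blockCoeff
    simp only [finsum_mem_eq_finite_toFinset_sum _ hfin]
    have e : ∀ x : G, (if x ∈ Q then (Nat.card G : ℂ)⁻¹ *
        ∑ χ ∈ hfin.toFinset, (χ : G → ℂ) 1 * conj ((χ : G → ℂ) x) else 0) =
        (Nat.card G : ℂ)⁻¹ * ∑ χ ∈ hfin.toFinset, (χ : G → ℂ) 1 *
          conj (if x ∈ Q then (χ : G → ℂ) (1 * x) else 0) := by
      intro x
      split_ifs
      · simp
      · simp
    rw [Finset.sum_congr rfl (fun x _ => e x), ← Finset.mul_sum, Finset.sum_comm]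
    have e2 : ∀ χ ∈ hfin.toFinset, ∑ x : G, (χ : G → ℂ) 1 *
        conj (if x ∈ Q then (χ : G → ℂ) (1 * x) else 0) = 0 := by
      intro χ hχ
      rw [← Finset.mul_sum, ← map_sum, H25.sum_coset_eq_zero Q χ (hnk χ (hfin.mem_toFinset.mp hχ)) 1]
      simp
    rw [Finset.sum_eq_zero e2, mul_zero]
  rw [h2] at h1
  -- but the coefficient at 1 is nonzero
  obtain ⟨χ₀, rfl⟩ := hB
  have hmem : χ₀ ∈ blockOf M (χ₀ : G → ℂ) := SameBlock.refl' htop _
  unfold blockCoeff at h1
  rw [finsum_mem_eq_finite_toFinset_sum _ hfin] at h1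
  have hpos : ∀ χ : Cfsg.IrrCharacter G, (χ : G → ℂ) 1 * conj ((χ : G → ℂ) 1) =
      (((charDegree (χ : G → ℂ)) ^ 2 : ℕ) : ℂ) := by
    intro χ
    rw [H25.charDegree_irr χ]
    simp [sq]
  rw [Finset.sum_congr rfl (fun χ _ => hpos χ), ← Nat.cast_sum] at h1
  have hc : (Nat.card G : ℂ)⁻¹ ≠ 0 := inv_ne_zero (by exact_mod_cast Nat.card_pos.ne')
  have h3 := (mul_eq_zero.mp h1.symm).resolve_left hc
  have h4 : ∑ χ ∈ hfin.toFinset, (charDegree (χ : G → ℂ)) ^ 2 = 0 := by exact_mod_cast h3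
  have h5 := (Finset.sum_eq_zero_iff.mp h4) χ₀ (hfin.mem_toFinset.mpr hmem)
  have h6 : charDegree (χ₀ : G → ℂ) = 0 := by simpa using h5
  have h7 := H25.charDegree_irr χ₀
  rw [h6] at h7
  exact irr_apply_one_ne_zero χ₀ (by simpa using h7)

/-- a `p`-regular element of a quotient has a `p`-regular preimage -/
theorem exists_regular_lift (Q : Subgroup G) [Q.Normal] (q : G ⧸ Q) (hq : ¬ p ∣ orderOf q) :
    ∃ g : G, ¬ p ∣ orderOf g ∧ (g : G ⧸ Q) = q := by
  obtain ⟨g₀, rfl⟩ := QuotientGroup.mk_surjective q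
  obtain ⟨a, ha⟩ := Cfsg.Agent.BlockLib.GrpAux.exists_pow_preg p g₀
  have hp : p.Prime := Fact.out
  have hco : (p ^ a).Coprime (orderOf (g₀ : G ⧸ Q)) :=
    Nat.Coprime.pow_left a ((Nat.Prime.coprime_iff_not_dvd hp).mpr hq)
  obtain ⟨m, hm⟩ := exists_pow_eq_self_of_coprime hco
  refine ⟨(g₀ ^ (p ^ a)) ^ m, ?_, ?_⟩
  · intro h
    exact ha (h.trans (orderOf_pow_dvd m))
  · rw [QuotientGroup.mk_pow, QuotientGroup.mk_pow, hm]

/-- for a `p`-regular element centralizing the normal `p`-subgroup `Q`, class sizes in `G` and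
in `G ⧸ Q` agree -/
theorem index_centralizer_quotient_eq (Q : Subgroup G) [Q.Normal] (hQp : IsPGroup p Q) {g : G}
    (hg : ¬ p ∣ orderOf g) (hgC : g ∈ Subgroup.centralizer (Q : Set G)) :
    (Subgroup.centralizer ({(g : G ⧸ Q)} : Set (G ⧸ Q))).index =
      (Subgroup.centralizer ({g} : Set G)).index := by
  rw [← Subgroup.index_comap_of_surjective _ (QuotientGroup.mk'_surjective Q)]
  congr 1
  ext x
  rw [Subgroup.mem_comap, Subgroup.mem_centralizer_singleton_iff,
    Subgroup.mem_centralizer_singleton_iff]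
  constructor
  · intro hx
    have hx' : ((x * g : G) : G ⧸ Q) = ((g * x : G) : G ⧸ Q) := hx
    have hz : (g * x)⁻¹ * (x * g) ∈ Q := (QuotientGroup.eq).mp hx'.symm
    set z := (g * x)⁻¹ * (x * g) with hzdef
    have e1 : x * g = g * x * z := by rw [hzdef]; group
    -- x⁻¹ g x = g z'  with z' in Q
    have e2 : x * g * x⁻¹ = g * (x * z * x⁻¹) := by rw [e1]; group
    have hz' : x * z * x⁻¹ ∈ Q := ‹Q.Normal›.conj_mem z hz x
    set w := x * z * x⁻¹ with hw
    have hcomm : Commute g w := (Subgroup.mem_centralizer_iff.mp hgC w hz').symm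
    have e3 : (x * g * x⁻¹) ^ orderOf g = 1 := by
      rw [conj_pow, pow_orderOf_eq_one]; group
    rw [e2, hcomm.mul_pow, pow_orderOf_eq_one, one_mul] at e3
    obtain ⟨k, hk⟩ := (IsPGroup.iff_orderOf.mp hQp) ⟨w, hz'⟩
    rw [Subgroup.orderOf_mk] at hk
    have h1 : orderOf w ∣ orderOf g := orderOf_dvd_of_pow_eq_one e3
    have hw1 : w = 1 := by
      rcases k with _ | k
      · rwa [pow_zero, orderOf_eq_one_iff] at hk
      · exfalso
        apply hg
        rw [hk] at h1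
        exact (dvd_pow_self p (Nat.succ_ne_zero k)).trans h1
    have hz1 : z = 1 := by
      have : x * z * x⁻¹ = 1 := hw1
      have h2 : z = x⁻¹ * (x * z * x⁻¹) * x := by group
      rw [h2, this]; group
    rw [e1, hz1, mul_one]
  · intro hx
    show (x : G ⧸ Q) * (g : G ⧸ Q) = (g : G ⧸ Q) * (x : G ⧸ Q)
    rw [← QuotientGroup.mk_mul, ← QuotientGroup.mk_mul, hx]

/-- descent of blocks to the quotient by a normal `p`-subgroup -/
theorem sameBlock_of_inflation (hM : Cfsg.IsPModular p M) (Q : Subgroup G) [Q.Normal]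
    (hQp : IsPGroup p Q)
    (H : ∀ g : G, ¬ p ∣ orderOf g → g ∉ Subgroup.centralizer (Q : Set G) →
      ∀ χ : Cfsg.IrrCharacter (G ⧸ Q), MemLocalIdeal M (centralChar (χ : G ⧸ Q → ℂ) (g : G ⧸ Q)))
    (χ ψ : Cfsg.IrrCharacter (G ⧸ Q))
    (h : SameBlock M ((χ : G ⧸ Q → ℂ) ∘ QuotientGroup.mk) ((ψ : G ⧸ Q → ℂ) ∘ QuotientGroup.mk)) :
    SameBlock M (χ : G ⧸ Q → ℂ) (ψ : G ⧸ Q → ℂ) := by
  have hMp := isPrime_of_isPModular hM
  apply Osima.sameBlock_of_regular hM
  intro q hq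
  obtain ⟨g, hg, rfl⟩ := exists_regular_lift Q q hq
  by_cases hgC : g ∈ Subgroup.centralizer (Q : Set G)
  · have h1 := h g
    unfold centralChar at h1 ⊢
    rw [index_centralizer_quotient_eq Q hQp hg hgC]
    exact h1
  · exact memLocalIdeal_sub (H g hg hgC χ) (H g hg hgC ψ)

end Cfsg.Agent.H25.QuotBlock
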