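import Cfsg.Agent.H25.Fong
import Cfsg.Agent.H25.QuotBlock
import Cfsg.Agent.BlockLib.KG.Index
import Cfsg.Agent.BlockLib.KG.DefectTr

/-!
# Defect groups of blocks of quotient groups
-/

set_option autoImplicit false

namespace Cfsg.Agent.H25.QuotDefect

open Cfsg Cfsg.Agent.CharLib Cfsg.Agent.BlockLib Cfsg.Agent.BlockLib.CA

universe u

variable {G : Type u} [Group G] [Finite G] {p : ℕ} [Fact p.Prime] {M : Ideal AlgInt}

/-- conjugates of defect groups are defect groups -/
theorem isDefectGroup_cjs (hM : IsPModular p M) {B : Set (IrrCharacter G)} (hB : IsPBlock M B)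
    {D : Subgroup G} (hD : IsDefectGroup p M B D) (x : G) : IsDefectGroup p M B (cjs x D) := by
  cases nonempty_fintype G
  have := isPrime_of_isPModular hM
  rw [isDefectGroup_iff hB] at hD ⊢
  exact hD.cj (isBlk_eps hB) (Subgroup.mem_top x)

/-- two defect groups are conjugate -/
theorem isDefectGroup_conj (hM : IsPModular p M) {B : Set (IrrCharacter G)} (hB : IsPBlock M B)
    {D D' : Subgroup G} (hD : IsDefectGroup p M B D) (hD' : IsDefectGroup p M B D') :
    ∃ x : G, D' = cjs x D := by
  cases nonempty_fintype G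
  have := isPrime_of_isPModular hM
  have hch : CharP (ResField M) p := charP_resField hM
  rw [isDefectGroup_iff hB] at hD hD'
  obtain ⟨x, -, hx⟩ := hD.conj (isBlk_eps hB) hD'
  exact ⟨x, hx⟩

theorem exists_isDefectGroup (hM : IsPModular p M) {B : Set (IrrCharacter G)}
    (hB : IsPBlock M B) : ∃ D, IsDefectGroup p M B D := by
  cases nonempty_fintype G
  have := isPrime_of_isPModular hM
  obtain ⟨P, hP⟩ := exists_isDefGrp (p := p) (isBlk_eps hB)
  exact ⟨P, (isDefectGroup_iff hB P).2 hP⟩

/-- images of conjugates -/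
theorem map_cjs (N : Subgroup G) [N.Normal] (x : G) (D : Subgroup G) :
    (cjs x D).map (QuotientGroup.mk' N) = cjs (x : G ⧸ N) (D.map (QuotientGroup.mk' N)) := by
  ext q
  constructor
  · rintro ⟨g, hg, rfl⟩
    rw [SetLike.mem_coe, mem_cjs] at hg
    rw [mem_cjs]
    exact ⟨_, hg, by simp⟩
  · intro hq
    rw [mem_cjs] at hq
    obtain ⟨d, hd, hdq⟩ := hq
    refine ⟨x * d * x⁻¹, ?_, ?_⟩
    · rw [SetLike.mem_coe, mem_cjs]
      simpa [mul_assoc] using hd
    · have : (QuotientGroup.mk' N) (x * d * x⁻¹) =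
          (x : G ⧸ N) * (QuotientGroup.mk' N d) * (x : G ⧸ N)⁻¹ := by simp
      rw [this, hdq]
      group

/-- the image of a Sylow subgroup of a full preimage is a Sylow subgroup -/
theorem isSylIn_map (N : Subgroup G) [N.Normal] {Q : Subgroup G} {K : Subgroup (G ⧸ N)}
    (hQ : IsSylIn p Q (K.comap (QuotientGroup.mk' N))) :
    IsSylIn p (Q.map (QuotientGroup.mk' N)) K := by
  have hNK : N ≤ K.comap (QuotientGroup.mk' N) := by
    intro n hn
    rw [Subgroup.mem_comap]
    have : (QuotientGroup.mk' N) n = 1 := (QuotientGroup.eq_one_iff n).2 hn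
    rw [this]; exact K.one_mem
  apply H25.isSylIn_of_not_dvd_relIndex (hQ.1.map _) (Subgroup.map_le_iff_le_comap.2 hQ.2.1)
  have h1 := not_dvd_relIndex_sup (C := N) hQ
  rw [sup_eq_left.2 hNK] at h1
  have h2 : ((Q.map (QuotientGroup.mk' N)).comap (QuotientGroup.mk' N)).relIndex
      (K.comap (QuotientGroup.mk' N)) = (Q.map (QuotientGroup.mk' N)).relIndex K := by
    rw [Subgroup.relIndex_comap, Subgroup.map_comap_eq_self_of_surjective
      (QuotientGroup.mk'_surjective N)]
  rw [← h2, Subgroup.comap_map_eq, QuotientGroup.ker_mk']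
  exact h1

theorem centralizer_le_comap (N : Subgroup G) [N.Normal] (x : G) :
    Subgroup.centralizer ({x} : Set G) ≤
      (Subgroup.centralizer ({(x : G ⧸ N)} : Set (G ⧸ N))).comap (QuotientGroup.mk' N) := by
  intro y hy
  rw [Subgroup.mem_comap, Subgroup.mem_centralizer_singleton_iff]
  rw [Subgroup.mem_centralizer_singleton_iff] at hy
  show (y : G ⧸ N) * (x : G ⧸ N) = (x : G ⧸ N) * (y : G ⧸ N)
  rw [← QuotientGroup.mk_mul, ← QuotientGroup.mk_mul, hy]

/-- class sizes in `G` and in the quotient -/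
theorem index_centralizer_eq (N : Subgroup G) [N.Normal] (x : G) :
    (Subgroup.centralizer ({x} : Set G)).index =
      (Subgroup.centralizer ({x} : Set G)).relIndex
        ((Subgroup.centralizer ({(x : G ⧸ N)} : Set (G ⧸ N))).comap (QuotientGroup.mk' N)) *
      (Subgroup.centralizer ({(x : G ⧸ N)} : Set (G ⧸ N))).index := by
  rw [← Subgroup.index_comap_of_surjective _ (QuotientGroup.mk'_surjective N)]
  exact (Subgroup.relIndex_mul_index (centralizer_le_comap N x)).symm

/-- central character of an inflated function -/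
theorem centralChar_inflation (N : Subgroup G) [N.Normal] (χ : G ⧸ N → ℂ) (x : G) :
    centralChar (χ ∘ QuotientGroup.mk) x =
      ((Subgroup.centralizer ({x} : Set G)).relIndex
        ((Subgroup.centralizer ({(x : G ⧸ N)} : Set (G ⧸ N))).comap (QuotientGroup.mk' N)) : ℂ) *
      centralChar χ (x : G ⧸ N) := by
  unfold centralChar
  rw [index_centralizer_eq N x]
  simp only [Function.comp, QuotientGroup.mk_one]
  push_cast
  ring

/-- if the ratio of the class sizes is prime to `p`, Sylow subgroups of the centralizer map onto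
Sylow subgroups of the centralizer in the quotient -/
theorem isSylIn_map_centralizer (N : Subgroup G) [N.Normal] {x : G} {Q : Subgroup G}
    (hQ : IsSylIn p Q (Subgroup.centralizer ({x} : Set G)))
    (h : ¬ p ∣ (Subgroup.centralizer ({x} : Set G)).relIndex
        ((Subgroup.centralizer ({(x : G ⧸ N)} : Set (G ⧸ N))).comap (QuotientGroup.mk' N))) :
    IsSylIn p (Q.map (QuotientGroup.mk' N))
      (Subgroup.centralizer ({(x : G ⧸ N)} : Set (G ⧸ N))) := by
  apply isSylIn_map
  apply H25.isSylIn_of_not_dvd_relIndex hQ.1 (hQ.2.1.trans (centralizer_le_comap N x))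
  rw [← Subgroup.relIndex_mul_relIndex _ _ _ hQ.2.1 (centralizer_le_comap N x)]
  intro hd
  rcases (Nat.Prime.dvd_mul Fact.out).1 hd with h1 | h1
  · exact hQ.not_dvd_relIndex h1
  · exact h h1

end Cfsg.Agent.H25.QuotDefect
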