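import Cfsg.Agent.H25.IndBlock
import Cfsg.Agent.H6.Gallagher
import Cfsg.Agent.Lib.Helper10.LinChar
import Cfsg.Agent.CharLib.L.Linear
import Cfsg.Agent.Lib.Helper23.MinMax

/-!
# Twisting by linear characters, complex conjugation and blocks
-/

set_option autoImplicit false

namespace Cfsg.Agent.H25

open Cfsg Cfsg.Agent.BlockLib Cfsg.Agent.CharLib
open scoped ComplexConjugate

universe u

variable {G : Type u} [Group G] [Fintype G] {M : Ideal AlgInt}

theorem hom_mul_conj (ω : G →* ℂˣ) (g : G) : (ω g : ℂ) * conj (ω g : ℂ) = 1 := by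
  rw [Complex.mul_conj, Complex.normSq_eq_norm_sq, Cfsg.Agent.Lib.Helper10.lin_norm]
  simp

theorem conj_hom (ω : G →* ℂˣ) (g : G) : conj (ω g : ℂ) = ((ω g)⁻¹ : ℂˣ) := by
  rw [Units.val_inv_eq_inv_val]
  exact eq_inv_of_mul_eq_one_right (hom_mul_conj ω g)

/-- twisting an irreducible character by a linear one -/
theorem isIrrCharacter_hom_mul (ω : G →* ℂˣ) {χ : G → ℂ} (hχ : IsIrrCharacter G χ) :
    IsIrrCharacter G (fun g => (ω g : ℂ) * χ g) := by
  apply isIrrCharacter_of_norm_one
    (isCharacter_mul (isCharacter_of_irr (isIrrCharacter_of_hom ω)) (isCharacter_of_irr hχ))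
  rw [← classInner_irr_self hχ]
  simp only [classInner]
  congr 1
  refine Finset.sum_congr rfl fun g _ => ?_
  simp only [Pi.mul_apply, map_mul]
  calc (ω g : ℂ) * χ g * (conj (ω g : ℂ) * conj (χ g))
      = ((ω g : ℂ) * conj (ω g : ℂ)) * (χ g * conj (χ g)) := by ring
    _ = _ := by rw [hom_mul_conj, one_mul]

theorem sameBlock_hom_mul {p : ℕ} (hM : IsPModular p M) (ω : G →* ℂˣ) {k : ℕ}
    (hω : ∀ g, (ω g) ^ (p ^ k) = 1) (χ : IrrCharacter G) :
    SameBlock M (fun g => (ω g : ℂ) * (χ : G → ℂ) g) (χ : G → ℂ) := by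
  have := isPrime_of_isPModular hM
  intro g
  have h1 : centralChar (fun g => (ω g : ℂ) * (χ : G → ℂ) g) g - centralChar (χ : G → ℂ) g =
      ((ω g : ℂ) - 1) * centralChar (χ : G → ℂ) g := by
    simp only [centralChar, map_one, Units.val_one, one_mul]
    ring
  rw [h1]
  apply memLocalIdeal_mul_right _ (memLocalRing_centralChar χ g)
  apply memLocalIdeal_sub_one_of_pow_eq_one hM (k := k)
  rw [← Units.val_pow_eq_pow_val, hω, Units.val_one]

omit [Fintype G] in
theorem centralizer_inv (g : G) :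
    Subgroup.centralizer ({g⁻¹} : Set G) = Subgroup.centralizer ({g} : Set G) := by
  ext x
  rw [Subgroup.mem_centralizer_singleton_iff, Subgroup.mem_centralizer_singleton_iff]
  constructor
  · intro h
    have : Commute x g⁻¹ := h
    exact (Commute.inv_right_iff.1 this).eq
  · intro h
    have : Commute x g := h
    exact (this.inv_right).eq

omit [Fintype G] in
theorem centralChar_conj [Finite G] {χ : G → ℂ} (hχ : IsCharacter G χ) (g : G) :
    centralChar (fun x => conj (χ x)) g = centralChar χ g⁻¹ := by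
  simp only [centralChar]
  rw [centralizer_inv, isCharacter_inv hχ g]
  have : conj (χ 1) = χ 1 := by rw [← isCharacter_inv hχ, inv_one]
  rw [this]

omit [Fintype G] in
theorem sameBlock_conj [Finite G] {χ ψ : G → ℂ} (hχ : IsCharacter G χ) (hψ : IsCharacter G ψ)
    (h : SameBlock M χ ψ) : SameBlock M (fun x => conj (χ x)) (fun x => conj (ψ x)) := by
  intro g
  rw [centralChar_conj hχ, centralChar_conj hψ]
  exact h g⁻¹

end Cfsg.Agent.H25
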