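import Mathlib
import Cfsg.Agent.CharLib.L.BurnsideZero

set_option autoImplicit false

namespace Cfsg.Agent.H25

open Module Cfsg Cfsg.Agent.CharLib Cfsg.Agent.CharLib.L

variable {G : Type*} [Group G] [Finite G]
variable {V : Type*} [AddCommGroup V] [Module ℂ V] [FiniteDimensional ℂ V]

/-- Galois conjugates of a nonzero character value are nonzero. -/
theorem character_pow_ne_zero (ρ : Representation ℂ G V) {g : G} (hne : ρ.character g ≠ 0)
    {m : ℕ} (hm : m.Coprime (Nat.card G)) : ρ.character (g ^ m) ≠ 0 := by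
  have hn0 : 0 < Nat.card G := Nat.card_pos
  obtain ⟨φ, hφ⟩ := exists_algHom_of_coprime (Nat.card G) hn0 m hm
  have h1 := algHom_character ρ g (Nat.card G) hn0 pow_card_eq_one' φ m hφ
    ⟨ρ.character g, character_mem_QBar ρ g⟩ rfl
  rw [← h1]
  intro h0
  apply hne
  have h2 : (⟨ρ.character g, character_mem_QBar ρ g⟩ : QBar) = 0 :=
    (map_eq_zero_iff φ φ.toRingHom.injective).1 h0
  exact congrArg Subtype.val h2

theorem card_units_le_sum_normSq' (ρ : Representation ℂ G V) (g : G)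
    (hne : ρ.character g ≠ 0) :
    (Fintype.card (ZMod (Nat.card G))ˣ : ℝ) ≤
      ∑ u : (ZMod (Nat.card G))ˣ, Complex.normSq (ρ.character (g ^ (u : ZMod (Nat.card G)).val)) := by
  classical
  set n := Nat.card G with hn
  have hn0 : 0 < n := Nat.card_pos
  have : NeZero n := ⟨hn0.ne'⟩
  have hne' : ∀ u : (ZMod n)ˣ, ρ.character (g ^ (u : ZMod n).val) ≠ 0 := fun u =>
    character_pow_ne_zero ρ hne (ZMod.val_coe_unit_coprime u)
  have hgn : ∀ x : G, x ^ n = 1 := fun x => pow_card_eq_one'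
  have hmod : ∀ (x : G) (k : ℕ), x ^ (k % n) = x ^ k := fun x k => pow_mod_natCard x k
  refine card_le_sum_of_one_le_prod _ (fun u => Complex.normSq_pos.mpr (hne' _)) ?_
  let y : (ZMod n)ˣ → QBar := fun u => ⟨ρ.character (g ^ (u : ZMod n).val), character_mem_QBar ρ _⟩
  let P : QBar := ∏ u, y u
  have hPc : (P : ℂ) = ∏ u : (ZMod n)ˣ, ρ.character (g ^ (u : ZMod n).val) := by
    simp [P, y]
  have hfix : ∀ φ : QBar →ₐ[ℚ] ℂ, φ P = (P : ℂ) := by
    intro φ
    obtain ⟨m, hm, hφ⟩ := exists_pow_of_algHom n hn0 φ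
    let um : (ZMod n)ˣ := ZMod.unitOfCoprime m hm
    have h1 : ∀ u : (ZMod n)ˣ, φ (y u) = ρ.character (g ^ ((u * um : (ZMod n)ˣ) : ZMod n).val) := by
      intro u
      rw [algHom_character ρ (g ^ (u : ZMod n).val) n hn0
        (hgn _) φ m hφ (y u) rfl]
      congr 1
      rw [← pow_mul, Units.val_mul, ZMod.val_mul, ZMod.coe_unitOfCoprime, ZMod.val_natCast, hmod]
      rw [← hmod g ((u : ZMod n).val * m), ← hmod g ((u : ZMod n).val * (m % n)), Nat.mul_mod,
        Nat.mul_mod (u : ZMod n).val (m % n), Nat.mod_mod]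
    rw [hPc]
    simp only [P, map_prod, h1]
    exact Fintype.prod_equiv (Equiv.mulRight um) _ _ (fun u => rfl)
  obtain ⟨q, hq⟩ := exists_rat_of_fixed P hfix
  have hint : IsIntegral ℤ (P : ℂ) := by
    rw [hPc]
    exact IsIntegral.prod _ fun u _ => isIntegral_character ρ _
  obtain ⟨k, hk⟩ := exists_int_of_isIntegral_of_rat hint hq
  have hPne : (P : ℂ) ≠ 0 := by
    rw [hPc]
    exact Finset.prod_ne_zero_iff.mpr fun u _ => hne' _
  have hk0 : k ≠ 0 := by
    rintro rfl
    apply hPne; rw [hk]; simp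
  have hns : Complex.normSq (P : ℂ) = ∏ u : (ZMod n)ˣ, Complex.normSq (ρ.character (g ^ (u : ZMod n).val)) := by
    rw [hPc, map_prod]
  rw [← hns, hk, Complex.normSq_intCast]
  have : (1 : ℤ) ≤ k * k := by
    have := Int.one_le_abs hk0
    have h2 : k * k = |k| * |k| := (abs_mul_abs_self k).symm
    rw [h2]; nlinarith
  exact_mod_cast this

/-- On a set of non-zeros closed under coprime powers the average of `|χ|²` is at least one. -/
theorem card_le_sum_normSq_of_closed (ρ : Representation ℂ G V) (S : Finset G)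
    (hS : ∀ m : ℕ, m.Coprime (Nat.card G) → ∀ g ∈ S, g ^ m ∈ S)
    (hne : ∀ g ∈ S, ρ.character g ≠ 0) :
    (S.card : ℝ) ≤ ∑ g ∈ S, Complex.normSq (ρ.character g) := by
  classical
  set n := Nat.card G with hn
  have hn0 : 0 < n := Nat.card_pos
  have : NeZero n := ⟨hn0.ne'⟩
  have h1 : ∀ u : (ZMod n)ˣ, ∑ g ∈ S, Complex.normSq (ρ.character (g ^ (u : ZMod n).val)) =
      ∑ g ∈ S, Complex.normSq (ρ.character g) := by
    intro u
    have hc : (Nat.card G).Coprime (u : ZMod n).val := (ZMod.val_coe_unit_coprime u).symm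
    have hinj : Function.Injective (fun g : G => g ^ (u : ZMod n).val) := (powCoprime hc).injective
    have himg : S.image (fun g : G => g ^ (u : ZMod n).val) = S := by
      apply Finset.eq_of_subset_of_card_le
      · intro x hx
        obtain ⟨g, hg, rfl⟩ := Finset.mem_image.1 hx
        exact hS _ hc.symm g hg
      · rw [Finset.card_image_of_injective _ hinj]
    conv_rhs => rw [← himg]
    rw [Finset.sum_image (fun a _ b _ hab => hinj hab)]
  have h2 : ∑ u : (ZMod n)ˣ, ∑ g ∈ S, Complex.normSq (ρ.character (g ^ (u : ZMod n).val)) =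
      (Fintype.card (ZMod n)ˣ : ℝ) * ∑ g ∈ S, Complex.normSq (ρ.character g) := by
    simp only [h1, Finset.sum_const, Finset.card_univ, nsmul_eq_mul]
  rw [Finset.sum_comm] at h2
  have h3 : (S.card : ℝ) * (Fintype.card (ZMod n)ˣ : ℝ) ≤
      ∑ g ∈ S, ∑ u : (ZMod n)ˣ, Complex.normSq (ρ.character (g ^ (u : ZMod n).val)) := by
    have : ∑ _g ∈ S, (Fintype.card (ZMod n)ˣ : ℝ) = (S.card : ℝ) * (Fintype.card (ZMod n)ˣ : ℝ) := by
      rw [Finset.sum_const, nsmul_eq_mul]
    rw [← this]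
    exact Finset.sum_le_sum fun g hg => card_units_le_sum_normSq' ρ g (hne g hg)
  rw [h2] at h3
  have hU : (0 : ℝ) < Fintype.card (ZMod n)ˣ := by exact_mod_cast Fintype.card_pos
  have h4 : (Fintype.card (ZMod n)ˣ : ℝ) * (S.card : ℝ) ≤
      (Fintype.card (ZMod n)ˣ : ℝ) * ∑ g ∈ S, Complex.normSq (ρ.character g) := by
    rw [mul_comm]; exact h3
  exact le_of_mul_le_mul_left h4 hU

/-- coprime powers detect membership in a subgroup -/
theorem pow_mem_iff_of_coprime (H : Subgroup G) {m : ℕ} (hm : m.Coprime (Nat.card G)) (g : G) :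
    g ^ m ∈ H ↔ g ∈ H := by
  constructor
  · intro h
    have h1 : (powCoprime hm.symm).symm (g ^ m) = g := (powCoprime hm.symm).symm_apply_apply g
    rw [← h1]
    exact H.zpow_mem h _
  · exact fun h => H.pow_mem h m

end Cfsg.Agent.H25
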